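import Cfsg.Agent.Lib.Spec.SLTwo
import Cfsg.Agent.Lib.Linear.DicksonTwo

/-!
# The element orders of `PSL(2, q)`
-/

set_option autoImplicit false
set_option linter.unusedSectionVars false
set_option linter.style.haveILetI false
set_option linter.unusedSimpArgs false

namespace Cfsg.Lib.Spec

open Matrix

universe u

variable {F : Type u} [Field F]

local notation "SL2" => Matrix.SpecialLinearGroup (Fin 2) F

theorem mk_pow_eq_one_iff (g : SL2) (n : ℕ) :
    (QuotientGroup.mk g : Matrix.ProjectiveSpecialLinearGroup (Fin 2) F) ^ n = 1 ↔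
      ∃ c : F, c ^ 2 = 1 ∧ ((g ^ n : SL2) : Matrix (Fin 2) (Fin 2) F) = c • 1 := by
  rw [← QuotientGroup.mk_pow, QuotientGroup.eq_one_iff, Matrix.SpecialLinearGroup.mem_center_iff]
  simp only [Fintype.card_fin, Matrix.scalar_apply, Matrix.smul_one_eq_diagonal, eq_comm]

theorem root_pow_eq {K : Type*} [Field K] [Algebra F K] {t : F} {r : K}
    (hr : r ^ 2 = algebraMap F K t * r - 1) :
    ∀ n, r ^ (n + 1) = algebraMap F K (chCoef t (n + 1)) * r - algebraMap F K (chCoef t n)
  | 0 => by simp [chCoef]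
  | n + 1 => by
      rw [pow_succ, root_pow_eq hr n]
      simp only [chCoef, map_sub, map_mul]
      linear_combination algebraMap F K (chCoef t (n + 1)) * hr

/-- A power of an element is scalar when the same power of an eigenvalue squares to one. -/
theorem pow_scalar_of_root {K : Type*} [Field K] [Algebra F K] (g : SL2) {r : K}
    (hr : r ^ 2 = algebraMap F K (trc g) * r - 1) (hne : r * r ≠ 1) {n : ℕ}
    (hn : (r ^ n) ^ 2 = 1) : ∃ c : F, c ^ 2 = 1 ∧ ((g ^ n : SL2) : Matrix (Fin 2) (Fin 2) F) = c • 1 := by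
  rcases n with _ | n
  · exact ⟨1, one_pow 2, by simp⟩
  have hr0 : r ≠ 0 := by rintro rfl; simp at hr
  set s := r⁻¹ with hs
  have hs2 : s ^ 2 = algebraMap F K (trc g) * s - 1 := by
    rw [hs]
    field_simp
    linear_combination hr
  have h1 := root_pow_eq hr n
  have h2 := root_pow_eq hs2 n
  have hrs : s ^ (n + 1) = r ^ (n + 1) := by
    rw [hs, inv_pow]
    exact (eq_inv_of_mul_eq_one_left (by rwa [← pow_two])).symm
  rw [hrs, h1] at h2
  have hc : algebraMap F K (chCoef (trc g) (n + 1)) * (r - s) = 0 := by linear_combination h2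
  have hrs' : r - s ≠ 0 := by
    intro h
    apply hne
    have := sub_eq_zero.mp h
    calc r * r = r * s := by rw [← this]
      _ = 1 := mul_inv_cancel₀ hr0
  have hz : chCoef (trc g) (n + 1) = 0 :=
    (algebraMap F K).injective (by rw [map_zero]; exact (mul_eq_zero.mp hc).resolve_right hrs')
  refine ⟨-chCoef (trc g) n, ?_, pow_eq_scalar g hz⟩
  apply (algebraMap F K).injective
  rw [hz, map_zero, zero_mul, zero_sub] at h1
  rw [map_pow, map_neg, map_one, ← h1, hn]

variable [Fintype F]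

theorem mem_range_algebraMap_of_pow_card {K : Type*} [Field K] [Algebra F K] {x : K}
    (hx : x ^ Fintype.card F = x) : ∃ a : F, algebraMap F K a = x := by
  classical
  by_contra h
  push Not at h
  have hsub : insert x ((Finset.univ : Finset F).image (algebraMap F K)) ⊆
      (Polynomial.X ^ Fintype.card F - Polynomial.X : Polynomial K).roots.toFinset := by
    intro y hy
    rw [Multiset.mem_toFinset, Polynomial.mem_roots
      (FiniteField.X_pow_card_sub_X_ne_zero K Fintype.one_lt_card)]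
    simp only [Polynomial.IsRoot, Polynomial.eval_sub, Polynomial.eval_pow, Polynomial.eval_X,
      sub_eq_zero]
    rcases Finset.mem_insert.mp hy with rfl | hy
    · exact hx
    · obtain ⟨a, -, rfl⟩ := Finset.mem_image.mp hy
      rw [← map_pow, FiniteField.pow_card]
  have h1 := (Finset.card_le_card hsub).trans (Multiset.toFinset_card_le _)
  rw [Finset.card_insert_of_notMem (by
      intro hm
      obtain ⟨a, -, ha⟩ := Finset.mem_image.mp hm
      exact h a ha),
    Finset.card_image_of_injective _ (algebraMap F K).injective, Finset.card_univ] at h1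
  have h2 := h1.trans (Polynomial.card_roots' _)
  rw [FiniteField.X_pow_card_sub_X_natDegree_eq K Fintype.one_lt_card] at h2
  omega

/-- The projective exponents: `p`, `(q - 1)/d`, `(q + 1)/d`. -/
theorem psl_two_exponents (p : ℕ) [Fact p.Prime] [CharP F p]
    (x : Matrix.ProjectiveSpecialLinearGroup (Fin 2) F) :
    x ^ p = 1 ∨ x ^ ((Fintype.card F - 1) / Nat.gcd 2 (Fintype.card F - 1)) = 1 ∨
      x ^ ((Fintype.card F + 1) / Nat.gcd 2 (Fintype.card F - 1)) = 1 := by
  obtain ⟨g, rfl⟩ := QuotientGroup.mk_surjective x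
  set q := Fintype.card F with hq
  set K := AlgebraicClosure F
  set t := algebraMap F K (trc g) with ht
  obtain ⟨r, hr⟩ := IsAlgClosed.exists_root
    (Polynomial.X ^ 2 - Polynomial.C t * Polynomial.X + Polynomial.C 1 : Polynomial K) (by
      have : (Polynomial.X ^ 2 - Polynomial.C t * Polynomial.X + Polynomial.C 1 :
          Polynomial K).degree = 2 := by compute_degree!
      rw [this]; norm_num)
  simp only [Polynomial.IsRoot, Polynomial.eval_add, Polynomial.eval_sub, Polynomial.eval_pow,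
    Polynomial.eval_X, Polynomial.eval_mul, Polynomial.eval_C] at hr
  have hr' : r ^ 2 = t * r - 1 := by linear_combination hr
  have hr0 : r ≠ 0 := by rintro rfl; simp at hr'
  by_cases hne : r * r = 1
  · left
    have htr : trc g * trc g = 4 := by
      apply (algebraMap F K).injective
      rw [map_mul, map_ofNat, ← ht]
      have h2 : t * r = 2 := by linear_combination -hr' + hne
      linear_combination (t * r + 2) * h2 - t * t * hne
    by_cases hp : p = 2
    · subst hp
      have h4 : (4 : F) = 0 := by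
        have := CharP.cast_eq_zero F 2
        linear_combination (2 : F) * this
      rw [h4, mul_self_eq_zero] at htr
      rw [mk_pow_eq_one_iff, sq_eq_one_of_trace_zero g htr]
      exact ⟨1, one_pow 2, by simp⟩
    · have h := Cfsg.Lib.Linear.Dickson.sq_pow_eq_one (p := p) (y := g) htr
      rw [← QuotientGroup.mk_pow, QuotientGroup.eq_one_iff]
      refine Cfsg.Lib.Linear.Dickson.mem_center_of_sq_eq_one
        (Cfsg.Lib.Linear.Dickson.two_ne_zero' hp) ?_
      rw [← h, ← pow_two, ← pow_two, ← pow_mul, ← pow_mul, mul_comm]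
  right
  have hfrob : (r ^ q) ^ 2 = t * r ^ q - 1 := by
    obtain ⟨n, hpn, hn⟩ := FiniteField.card F p
    haveI : CharP K p := charP_of_injective_algebraMap (algebraMap F K).injective p
    have htq : t ^ q = t := by rw [ht, ← map_pow, FiniteField.pow_card]
    rw [← pow_mul, mul_comm, pow_mul, hr', hq, hn, sub_pow_char_pow, mul_pow, one_pow, ← hn, ← hq,
      htq]
  have hsplit : (r ^ q - r) * (r ^ q - r⁻¹) = 0 := by
    apply mul_left_cancel₀ hr0
    rw [mul_zero]
    linear_combination r * hfrob - r ^ q * hr' + (r - r ^ q) * mul_inv_cancel₀ hr0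
  have hq1 : 1 ≤ q := Fintype.card_pos
  rcases mul_eq_zero.mp hsplit with h | h
  · left
    rw [mk_pow_eq_one_iff]
    refine pow_scalar_of_root g hr' hne ?_
    have h1 : r ^ (q - 1) = 1 := by
      refine mul_left_cancel₀ hr0 ?_
      rw [← pow_succ', Nat.sub_add_cancel hq1, sub_eq_zero.mp h, mul_one]
    rw [← pow_mul]
    obtain ⟨m, hm⟩ : q - 1 ∣ (q - 1) / Nat.gcd 2 (q - 1) * 2 :=
      ⟨2 / Nat.gcd 2 (q - 1), by
        rw [← Nat.mul_div_assoc _ (Nat.gcd_dvd_left _ _), Nat.mul_comm (_ / _),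
          ← Nat.mul_div_assoc _ (Nat.gcd_dvd_right _ _), Nat.mul_comm 2]⟩
    rw [hm, pow_mul, h1, one_pow]
  · right
    rw [mk_pow_eq_one_iff]
    refine pow_scalar_of_root g hr' hne ?_
    have h1 : r ^ (q + 1) = 1 := by
      rw [pow_succ, sub_eq_zero.mp h, inv_mul_cancel₀ hr0]
    have hd : Nat.gcd 2 (q - 1) ∣ q + 1 := by
      rcases (Nat.dvd_prime Nat.prime_two).mp (Nat.gcd_dvd_left 2 (q - 1)) with e | e
      · rw [e]; exact one_dvd _
      · rw [e]
        have := e ▸ Nat.gcd_dvd_right 2 (q - 1)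
        omega
    rw [← pow_mul]
    obtain ⟨m, hm⟩ : q + 1 ∣ (q + 1) / Nat.gcd 2 (q - 1) * 2 :=
      ⟨2 / Nat.gcd 2 (q - 1), by
        rw [← Nat.mul_div_assoc _ (Nat.gcd_dvd_left _ _), Nat.mul_comm (_ / _),
          ← Nat.mul_div_assoc _ hd, Nat.mul_comm 2]⟩
    rw [hm, pow_mul, h1, one_pow]

/-- An element of the projective group from an eigenvalue. -/
theorem exists_psl_two_eigen {K : Type*} [Field K] [Algebra F K] {r : K} (hne : r * r ≠ 1)
    (hr : r ≠ 0) (hq : r ^ Fintype.card F = r ∨ r ^ Fintype.card F = r⁻¹) {m : ℕ}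
    (hm : ∀ n, (r ^ n) ^ 2 = 1 ↔ m ∣ n) :
    ∃ x : Matrix.ProjectiveSpecialLinearGroup (Fin 2) F, orderOf x = m := by
  obtain ⟨p, hp⟩ := CharP.exists F
  haveI := hp
  obtain ⟨k, hpk, hk⟩ := FiniteField.card F p
  haveI := Fact.mk hpk
  haveI : CharP K p := charP_of_injective_algebraMap (algebraMap F K).injective p
  obtain ⟨t, ht⟩ := mem_range_algebraMap_of_pow_card (F := F) (x := r + r⁻¹) (by
    rw [hk, add_pow_char_pow, ← hk, inv_pow]
    rcases hq with e | e <;> rw [e]
    rw [inv_inv, add_comm])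
  let g : SL2 := ⟨!![t, -1; 1, 0], by simp [Matrix.det_fin_two]⟩
  have htr : trc g = t := by simp [trc, g]
  have hr2 : r ^ 2 = algebraMap F K (trc g) * r - 1 := by
    rw [htr, ht]
    field_simp
    ring
  suffices h : ∀ n, (QuotientGroup.mk g : Matrix.ProjectiveSpecialLinearGroup (Fin 2) F) ^ n = 1 ↔ m ∣ n from
    ⟨QuotientGroup.mk g, Nat.dvd_antisymm (orderOf_dvd_of_pow_eq_one ((h m).mpr dvd_rfl))
      ((h _).mp (pow_orderOf_eq_one _))⟩
  intro n
  rw [← hm, mk_pow_eq_one_iff]
  refine ⟨?_, pow_scalar_of_root g hr2 hne⟩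
  rintro ⟨c, hc, hcn⟩
  rcases n with _ | n
  · simp
  · have h1 := root_pow_eq hr2 n
    rw [Matrix.SpecialLinearGroup.coe_pow, pow_succ_eq] at hcn
    have hz : chCoef (trc g) (n + 1) = 0 := by
      simpa [g] using congrFun (congrFun hcn 1) 0
    have hy : -chCoef (trc g) n = c := by
      simpa [g, hz] using congrFun (congrFun hcn 0) 0
    rw [h1, hz, map_zero, zero_mul, zero_sub, ← map_neg, hy, ← map_pow, hc, map_one]

/-- The element orders of `PSL(2, q)`. -/
theorem psl_two_spectrum (p : ℕ) [Fact p.Prime] [CharP F p] (h4 : 4 ≤ Fintype.card F) :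
    Set.range (orderOf : Matrix.ProjectiveSpecialLinearGroup (Fin 2) F → ℕ) =
      {m : ℕ | m ∣ p ∨ m ∣ (Fintype.card F - 1) / Nat.gcd 2 (Fintype.card F - 1) ∨
        m ∣ (Fintype.card F + 1) / Nat.gcd 2 (Fintype.card F - 1)} := by
  classical
  set q := Fintype.card F with hqdef
  ext m
  constructor
  · rintro ⟨x, rfl⟩
    rcases psl_two_exponents p x with h | h | h
    · exact Or.inl (orderOf_dvd_of_pow_eq_one h)
    · exact Or.inr (Or.inl (orderOf_dvd_of_pow_eq_one h))
    · exact Or.inr (Or.inr (orderOf_dvd_of_pow_eq_one h))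
  intro hm
  suffices hbig : ∃ N, m ∣ N ∧ ∃ x : Matrix.ProjectiveSpecialLinearGroup (Fin 2) F, orderOf x = N by
    obtain ⟨N, hN, x, hx⟩ := hbig
    obtain ⟨k, hk⟩ := hN
    have hN0 : N ≠ 0 := fun h => (orderOf_pos x).ne' (hx.trans h)
    have hk0 : k ≠ 0 := by rintro rfl; simp at hk; exact hN0 hk
    refine ⟨x ^ k, ?_⟩
    rw [orderOf_pow_of_dvd hk0 (hx ▸ Dvd.intro_left m hk.symm), hx, hk,
      Nat.mul_div_cancel _ (Nat.pos_of_ne_zero hk0)]
  obtain ⟨k, hpk, hqk⟩ := FiniteField.card F p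
  haveI : CharP (AlgebraicClosure F) p :=
    charP_of_injective_algebraMap (algebraMap F (AlgebraicClosure F)).injective p
  have hd2 := Nat.gcd_dvd_left 2 (q - 1)
  have hd1 := Nat.gcd_dvd_right 2 (q - 1)
  have hd0 : 0 < Nat.gcd 2 (q - 1) := Nat.gcd_pos_of_pos_left _ (by norm_num)
  have hpq : p ∣ q := by rw [hqdef, hqk]; exact dvd_pow_self p k.ne_zero
  have key : ∀ N, ¬ p ∣ N → 3 ≤ N → (N ∣ q - 1 ∨ N ∣ q + 1) → Nat.gcd 2 (q - 1) = Nat.gcd 2 N →
      ∃ x : Matrix.ProjectiveSpecialLinearGroup (Fin 2) F, orderOf x = N / Nat.gcd 2 N := by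
    intro N hpN hN hNq hg
    haveI : NeZero ((N : AlgebraicClosure F)) :=
      ⟨fun h => hpN ((CharP.cast_eq_zero_iff _ p N).mp h)⟩
    haveI : NeZero N := ⟨by omega⟩
    obtain ⟨r, hr⟩ := HasEnoughRootsOfUnity.exists_primitiveRoot (AlgebraicClosure F) N
    refine exists_psl_two_eigen ?_ (hr.ne_zero (by omega)) ?_ fun n => ?_
    · intro h
      have := hr.dvd_of_pow_eq_one 2 (by rwa [pow_two])
      have := Nat.le_of_dvd (by norm_num) this
      omega
    · rcases hNq with h | h
      · left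
        obtain ⟨c, hc⟩ := h
        calc r ^ q = r ^ (q - 1) * r := by rw [← pow_succ, Nat.sub_add_cancel (by omega)]
          _ = r := by rw [hc, pow_mul, hr.pow_eq_one, one_pow, one_mul]
      · right
        obtain ⟨c, hc⟩ := h
        refine eq_inv_of_mul_eq_one_left ?_
        rw [← pow_succ, hc, pow_mul, hr.pow_eq_one, one_pow]
    · rw [← pow_mul, hr.pow_eq_one_iff_dvd]
      obtain ⟨a, ha⟩ := Nat.gcd_dvd_right 2 N
      rcases (Nat.dvd_prime Nat.prime_two).mp (Nat.gcd_dvd_left 2 N) with e | e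
      · rw [e, Nat.div_one]
        exact ⟨fun h => (Nat.coprime_comm.mp e).dvd_of_dvd_mul_right h,
          fun h => h.trans (dvd_mul_right n 2)⟩
      · rw [e] at ha ⊢
        rw [ha, Nat.mul_div_cancel_left _ (by norm_num), Nat.mul_comm n 2]
        exact Nat.mul_dvd_mul_iff_left (by norm_num)
  have hgodd : Nat.gcd 2 (q - 1) = Nat.gcd 2 (q + 1) := by
    rw [show q + 1 = (q - 1) + 2 by omega, Nat.gcd_add_self_right]
  have hnp : ¬ p ∣ q - 1 ∧ ¬ p ∣ q + 1 := by
    have h2 := (Fact.out : p.Prime).two_le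
    constructor <;> intro h
    · have := Nat.dvd_sub hpq h
      rw [show q - (q - 1) = 1 by omega] at this
      exact absurd (Nat.le_of_dvd one_pos this) (by omega)
    · have := (Nat.dvd_add_right hpq).mp h
      exact absurd (Nat.le_of_dvd one_pos this) (by omega)
  rcases hm with h | h | h
  · refine ⟨p, h, QuotientGroup.mk (Cfsg.Lib.Linear.Dickson.tU (1 : F)), ?_⟩
    refine orderOf_eq_prime ?_ ?_
    · rw [← QuotientGroup.mk_pow, Cfsg.Lib.Linear.Dickson.tU_pow, CharP.cast_eq_zero, zero_mul,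
        Cfsg.Lib.Linear.Dickson.tU_zero, QuotientGroup.mk_one]
    · rw [Ne, QuotientGroup.eq_one_iff, Matrix.SpecialLinearGroup.mem_center_iff]
      rintro ⟨c, -, hc⟩
      have := congrFun (congrFun hc 0) 1
      simp [Cfsg.Lib.Linear.Dickson.tU_coe] at this
  · exact ⟨_, h, by simpa using key (q - 1) hnp.1 (by omega) (Or.inl dvd_rfl) rfl⟩
  · exact ⟨_, h, by simpa [← hgodd] using key (q + 1) hnp.2 (by omega) (Or.inr dvd_rfl) hgodd⟩

end Cfsg.Lib.Spec
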