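import Mathlib

/-!
# Elements of `SL(2, F)` acting on the natural module
-/

set_option autoImplicit false

namespace Cfsg.Lib.Spec

open Matrix

universe u

variable {F : Type u} [Field F]

local notation "SL2" => Matrix.SpecialLinearGroup (Fin 2) F

/-- The natural module action, written multiplicatively. -/
def natAct : SL2 →* MulAut (Multiplicative (Fin 2 → F)) where
  toFun g :=
    { toFun := fun w => Multiplicative.ofAdd ((g : Matrix (Fin 2) (Fin 2) F) *ᵥ Multiplicative.toAdd w)
      invFun := fun w =>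
        Multiplicative.ofAdd (((g⁻¹ : SL2) : Matrix (Fin 2) (Fin 2) F) *ᵥ Multiplicative.toAdd w)
      left_inv := fun w => by
        apply Multiplicative.toAdd.injective
        simp only [toAdd_ofAdd, Matrix.mulVec_mulVec]
        rw [← Matrix.SpecialLinearGroup.coe_mul, inv_mul_cancel, Matrix.SpecialLinearGroup.coe_one,
          Matrix.one_mulVec]
      right_inv := fun w => by
        apply Multiplicative.toAdd.injective
        simp only [toAdd_ofAdd, Matrix.mulVec_mulVec]
        rw [← Matrix.SpecialLinearGroup.coe_mul, mul_inv_cancel, Matrix.SpecialLinearGroup.coe_one,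
          Matrix.one_mulVec]
      map_mul' := fun a b => by
        apply Multiplicative.toAdd.injective
        simp [Matrix.mulVec_add] }
  map_one' := by
    ext w : 1
    simp
  map_mul' a b := by
    ext w : 1
    apply Multiplicative.toAdd.injective
    exact (Matrix.mulVec_mulVec (Multiplicative.toAdd w) (a : Matrix (Fin 2) (Fin 2) F) (b : Matrix (Fin 2) (Fin 2) F)).symm

theorem natAct_apply (g : SL2) (w : Multiplicative (Fin 2 → F)) :
    Multiplicative.toAdd (natAct g w) = (g : Matrix (Fin 2) (Fin 2) F) *ᵥ Multiplicative.toAdd w :=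
  rfl

/-- The trace. -/
def trc (g : SL2) : F := (g : Matrix (Fin 2) (Fin 2) F) 0 0 + (g : Matrix (Fin 2) (Fin 2) F) 1 1

theorem det_eq (g : SL2) : (g : Matrix (Fin 2) (Fin 2) F) 0 0 * (g : Matrix (Fin 2) (Fin 2) F) 1 1 -
    (g : Matrix (Fin 2) (Fin 2) F) 0 1 * (g : Matrix (Fin 2) (Fin 2) F) 1 0 = 1 := by
  rw [← Matrix.det_fin_two, Matrix.SpecialLinearGroup.det_coe]

theorem cayley_hamilton (g : SL2) : (g : Matrix (Fin 2) (Fin 2) F) * g =
    trc g • (g : Matrix (Fin 2) (Fin 2) F) - 1 := by
  have h := det_eq g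
  ext i j
  fin_cases i <;> fin_cases j <;>
    simp [trc, Matrix.mul_apply, Fin.sum_univ_two] <;>
      first | linear_combination h | linear_combination -h | ring

/-- The coefficients of the powers of an element of trace `t`. -/
def chCoef (t : F) : ℕ → F
  | 0 => 0
  | 1 => 1
  | n + 2 => t * chCoef t (n + 1) - chCoef t n

theorem pow_succ_eq (g : SL2) : ∀ n, (g : Matrix (Fin 2) (Fin 2) F) ^ (n + 1) =
    chCoef (trc g) (n + 1) • (g : Matrix (Fin 2) (Fin 2) F) -
      chCoef (trc g) n • (1 : Matrix (Fin 2) (Fin 2) F)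
  | 0 => by simp [chCoef]
  | n + 1 => by
      rw [pow_succ, pow_succ_eq g n, sub_mul, smul_mul_assoc, smul_mul_assoc, one_mul,
        cayley_hamilton g]
      simp only [chCoef]
      module

theorem pow_eq_scalar (g : SL2) {n : ℕ} (h : chCoef (trc g) (n + 1) = 0) :
    ((g ^ (n + 1) : SL2) : Matrix (Fin 2) (Fin 2) F) =
      (-chCoef (trc g) n) • (1 : Matrix (Fin 2) (Fin 2) F) := by
  rw [Matrix.SpecialLinearGroup.coe_pow, pow_succ_eq g n, h, zero_smul, zero_sub, neg_smul]

theorem pow_eq_one_of_coef (g : SL2) {n : ℕ} (h : chCoef (trc g) (n + 1) = 0)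
    (h' : chCoef (trc g) n = -1) : g ^ (n + 1) = 1 := by
  apply Subtype.ext
  rw [pow_eq_scalar g h, h', neg_neg, one_smul, Matrix.SpecialLinearGroup.coe_one]

theorem sq_eq_one_of_trace_zero [CharP F 2] (g : SL2) (h : trc g = 0) : g ^ 2 = 1 := by
  refine pow_eq_one_of_coef g (n := 1) ?_ ?_
  · simp [chCoef, h]
  · simp [chCoef, CharTwo.neg_eq]

theorem sq_eq_one_of_fixed [CharP F 2] (g : SL2) {w : Multiplicative (Fin 2 → F)} (hw : w ≠ 1)
    (hfix : natAct g w = w) : g ^ 2 = 1 := by
  refine sq_eq_one_of_trace_zero g ?_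
  have h := congrArg Multiplicative.toAdd hfix
  rw [natAct_apply] at h
  have hdet : ((g : Matrix (Fin 2) (Fin 2) F) - 1).det = 0 := by
    rw [← Matrix.exists_mulVec_eq_zero_iff]
    refine ⟨Multiplicative.toAdd w, fun h0 => hw (Multiplicative.toAdd.injective h0), ?_⟩
    rw [Matrix.sub_mulVec, h, Matrix.one_mulVec, sub_self]
  have h2 : (2 : F) = 0 := CharTwo.two_eq_zero
  rw [Matrix.det_fin_two] at hdet
  simp only [Matrix.sub_apply, Matrix.one_apply_eq, Matrix.one_apply_ne zero_ne_one,
    Matrix.one_apply_ne one_ne_zero, sub_zero] at hdet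
  simp only [trc]
  linear_combination -hdet + det_eq g + h2

theorem center_eq_bot_of_char_two [CharP F 2] :
    Subgroup.center (Matrix.SpecialLinearGroup (Fin 2) F) = ⊥ := by
  rw [Subgroup.eq_bot_iff_forall]
  intro g hg
  obtain ⟨r, hr, hr'⟩ := Matrix.SpecialLinearGroup.mem_center_iff.mp hg
  rw [Fintype.card_fin] at hr
  have : r = 1 := by
    rcases sq_eq_one_iff.mp hr with h | h
    · exact h
    · rw [h, CharTwo.neg_eq]
  apply Subtype.ext
  rw [← hr', this, map_one, Matrix.SpecialLinearGroup.coe_one]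

/-- In characteristic two the projective group is the linear one. -/
noncomputable def pslEquivOfCharTwo [CharP F 2] :
    Matrix.ProjectiveSpecialLinearGroup (Fin 2) F ≃* Matrix.SpecialLinearGroup (Fin 2) F :=
  (QuotientGroup.quotientMulEquivOfEq center_eq_bot_of_char_two).trans QuotientGroup.quotientBot

end Cfsg.Lib.Spec
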