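import Mathlib
import Cfsg.Agent.Lib.Linear.UnitaryCenter

/-!
# Exponents of elements of the three-dimensional unitary group in odd characteristic
-/

set_option autoImplicit false
set_option linter.style.longLine false
set_option linter.style.haveILetI false

namespace Cfsg.Lib.Spec.UThree

open Matrix Polynomial Cfsg.Lib.Linear.Herm

variable {F : Type*} [Field F] [Fintype F] {q : ℕ}

theorem char_facts (p : ℕ) [Fact p.Prime] [CharP F p] (hF : Fintype.card F = q ^ 2) :
    (∃ e, 0 < e ∧ q = p ^ e) ∧ 2 ≤ q := by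
  obtain ⟨m, hp, hm⟩ := FiniteField.card F p
  have hq := two_le_q hF
  rw [hF] at hm
  have hd : q ∣ p ^ (m : ℕ) := hm ▸ dvd_pow_self q two_ne_zero
  obtain ⟨e, -, he⟩ := (Nat.dvd_prime_pow hp).mp hd
  refine ⟨⟨e, Nat.pos_of_ne_zero fun h => ?_, he⟩, hq⟩
  rw [he, h, pow_zero] at hq
  omega

theorem mem_range_algebraMap {K : Type*} [Field K] [Algebra F K] {x : K}
    (h : x ^ Fintype.card F = x) : ∃ c : F, algebraMap F K c = x := by
  classical
  have h1 : 1 < Fintype.card F := Fintype.one_lt_card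
  set P : K[X] := X ^ Fintype.card F - X with hP
  have hP0 : P ≠ 0 := FiniteField.X_pow_card_sub_X_ne_zero K h1
  have hmem : ∀ y : K, y ^ Fintype.card F = y → y ∈ P.roots.toFinset := fun y hy => by
    rw [Multiset.mem_toFinset, mem_roots hP0, IsRoot, hP, eval_sub, eval_pow, eval_X, hy, sub_self]
  have hsub : Finset.univ.image (algebraMap F K) ⊆ P.roots.toFinset := fun y hy => by
    obtain ⟨c, -, rfl⟩ := Finset.mem_image.mp hy
    exact hmem _ (by rw [← map_pow, FiniteField.pow_card])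
  have heq : Finset.univ.image (algebraMap F K) = P.roots.toFinset := by
    refine Finset.eq_of_subset_of_card_le hsub ?_
    rw [Finset.card_image_of_injective _ (algebraMap F K).injective, Finset.card_univ]
    refine ((Multiset.toFinset_card_le _).trans (card_roots' P)).trans ?_
    exact (FiniteField.X_pow_card_sub_X_natDegree_eq K h1).le
  have := hmem x h
  rw [← heq] at this
  obtain ⟨c, -, hc⟩ := Finset.mem_image.mp this
  exact ⟨c, hc⟩

/-- The underlying matrix of an element of the unitary group. -/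
def smat (g : Cfsg.SU 3 F q) : Matrix (Fin 3) (Fin 3) F := (g.1 : Matrix.SpecialLinearGroup (Fin 3) F).1

theorem smat_det (g : Cfsg.SU 3 F q) : (smat g).det = 1 := g.1.2

omit [Fintype F] in
theorem smat_pow (g : Cfsg.SU 3 F q) (n : ℕ) : smat (g ^ n) = smat g ^ n := by simp [smat]

theorem smat_form (hF : Fintype.card F = q ^ 2) (g : Cfsg.SU 3 F q) :
    ((smat g).map (· ^ q))ᵀ * smat g = 1 := by
  have h1 : (smat g)ᵀ * (smat g).map (· ^ q) = 1 := by
    ext i j
    have h := g.2 (Pi.single i 1) (Pi.single j 1)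
    simp only [Cfsg.hermForm] at h
    rw [Matrix.mul_apply, Matrix.one_apply]
    refine (Eq.trans ?_ h).trans ?_
    · refine Finset.sum_congr rfl fun k _ => ?_
      simp [smat, Cfsg.slToMat]
    · have := two_le_q hF
      rw [Fin.sum_univ_three]
      fin_cases i <;> fin_cases j <;> simp [zero_pow (show q ≠ 0 by omega)]
  have h := congrArg Matrix.transpose h1
  rwa [Matrix.transpose_mul, Matrix.transpose_one, Matrix.transpose_transpose] at h

/-- The roots of the characteristic polynomial are closed under inverse conjugation. -/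
theorem conj_root (p : ℕ) [Fact p.Prime] [CharP F p] (hF : Fintype.card F = q ^ 2)
    (g : Cfsg.SU 3 F q) {K : Type*} [Field K] [Algebra F K] {a : K}
    (ha : ((smat g).charpoly.map (algebraMap F K)).IsRoot a) :
    a ≠ 0 ∧ ((smat g).charpoly.map (algebraMap F K)).IsRoot (a ^ q)⁻¹ := by
  obtain ⟨⟨e, -, rfl⟩, -⟩ := char_facts p hF
  haveI : CharP K p := charP_of_injective_algebraMap (algebraMap F K).injective p
  set B := (algebraMap F K).mapMatrix (smat g) with hB
  have hchar : (smat g).charpoly.map (algebraMap F K) = B.charpoly :=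
    (Matrix.charpoly_map (smat g) (algebraMap F K)).symm
  have hBdet : B.det = 1 := by rw [hB, ← RingHom.map_det, smat_det, map_one]
  rw [hchar, IsRoot, Matrix.eval_charpoly] at ha
  have ha0 : a ≠ 0 := by
    rintro rfl
    rw [map_zero, zero_sub, Matrix.det_neg, hBdet] at ha
    simp at ha
  refine ⟨ha0, ?_⟩
  set φ : K →+* K := iterateFrobenius K p e with hφ
  have hφa : ∀ x, φ x = x ^ p ^ e := fun x => iterateFrobenius_def p e x
  have h1 := congrArg φ ha
  rw [RingHom.map_det, map_zero, map_sub, RingHom.mapMatrix_apply, RingHom.mapMatrix_apply,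
    Matrix.scalar_apply, Matrix.diagonal_map (map_zero φ)] at h1
  have hinv : φ.mapMatrix B = (algebraMap F K).mapMatrix ((smat g).map (· ^ p ^ e)) := by
    ext i j
    simp [hB, hφa]
  have hmul : (φ.mapMatrix B)ᵀ * B = 1 := by
    rw [hinv, hB, RingHom.mapMatrix_apply, RingHom.mapMatrix_apply, ← Matrix.transpose_map,
      ← Matrix.map_mul, smat_form hF g, Matrix.map_one _ (map_zero _) (map_one _)]
  have h2 : (Matrix.scalar (Fin 3) (φ a) - φ.mapMatrix B).det = 0 := by
    rw [RingHom.mapMatrix_apply, Matrix.scalar_apply]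
    exact h1
  rw [← Matrix.det_transpose, Matrix.transpose_sub, Matrix.scalar_apply, Matrix.diagonal_transpose] at h2
  have h3 : ((Matrix.diagonal fun _ => φ a) - (φ.mapMatrix B)ᵀ) * B = φ a • B - 1 := by
    rw [Matrix.sub_mul, hmul, Matrix.smul_eq_diagonal_mul]
  have h4 := congrArg Matrix.det h3
  rw [Matrix.det_mul, h2, zero_mul] at h4
  rw [hchar, IsRoot, Matrix.eval_charpoly, ← hφa]
  have hne : φ a ≠ 0 := (map_ne_zero φ).mpr ha0
  have h5 : Matrix.scalar (Fin 3) (φ a)⁻¹ - B = (-(φ a)⁻¹) • (φ a • B - 1) := by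
    rw [smul_sub, smul_smul, neg_mul, inv_mul_cancel₀ hne, Matrix.scalar_apply,
      Matrix.smul_one_eq_diagonal]
    simp [sub_eq_add_neg, add_comm]
  rw [h5, Matrix.det_smul, ← h4, mul_zero]

theorem pow_eq_one_of_gcd {K : Type*} [Monoid K] {a : K} {m n k : ℕ} (hm : a ^ m = 1)
    (hn : a ^ n = 1) (hk : Nat.gcd m n ∣ k) : a ^ k = 1 := by
  have h : orderOf a ∣ k :=
    (Nat.dvd_gcd (orderOf_dvd_of_pow_eq_one hm) (orderOf_dvd_of_pow_eq_one hn)).trans hk
  exact orderOf_dvd_iff_pow_eq_one.mp h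

theorem gcd_sub_two (hq : 2 ≤ q) : Nat.gcd (q - 2) (q ^ 2 - 1) ∣ 3 := by
  have h1 : q ^ 2 - 1 = (q - 2) * (q + 2) + 3 := by
    obtain ⟨m, rfl⟩ : ∃ m, q = m + 2 := ⟨q - 2, by omega⟩
    have e1 : (m + 2) ^ 2 = m * (m + 2 + 2) + 4 := by ring
    rw [Nat.add_sub_cancel]
    omega
  have h2 := Nat.gcd_dvd_left (q - 2) (q ^ 2 - 1)
  have h3 := Nat.gcd_dvd_right (q - 2) (q ^ 2 - 1)
  have h4 : Nat.gcd (q - 2) (q ^ 2 - 1) ∣ (q - 2) * (q + 2) + 3 := h3.trans (dvd_of_eq h1)
  exact (Nat.dvd_add_right (h2.mul_right _)).mp h4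

/-- The four exponents. -/
def expo (p q : ℕ) : List ℕ :=
  [q + 1, p * (q + 1) / Nat.gcd 3 (q + 1), (q ^ 2 - 1) / Nat.gcd 3 (q + 1),
    (q ^ 2 - q + 1) / Nat.gcd 3 (q + 1)]

variable {K : Type*} [Field K]

theorem pair_case (hq : 2 ≤ q) {a b c : K} (ha0 : a ≠ 0) (hb : (a ^ q)⁻¹ = b) (hab : (b ^ q)⁻¹ = a)
    (habc : a * b * c = 1) :
    let m := (q ^ 2 - 1) / Nat.gcd 3 (q + 1)
    b ^ m = a ^ m ∧ c ^ m = a ^ m ∧ (a ^ m) ^ q ^ 2 = a ^ m := by
  intro m
  have hd1 : Nat.gcd 3 (q + 1) ∣ q + 1 := Nat.gcd_dvd_right _ _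
  have hfac : q ^ 2 - 1 = (q + 1) * (q - 1) := by
    obtain ⟨r, rfl⟩ : ∃ r, q = r + 1 := ⟨q - 1, by omega⟩
    rw [Nat.add_sub_cancel]
    have : (r + 1) ^ 2 = (r + 1 + 1) * r + 1 := by ring
    omega
  obtain ⟨s, hs⟩ := hd1
  have hdpos : 0 < Nat.gcd 3 (q + 1) := Nat.gcd_pos_of_pos_left _ (by norm_num)
  have hm : m = s * (q - 1) := by
    show (q ^ 2 - 1) / Nat.gcd 3 (q + 1) = _
    rw [hfac]
    generalize Nat.gcd 3 (q + 1) = d at hs hdpos ⊢
    rw [hs, mul_assoc, Nat.mul_div_cancel_left _ hdpos]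
  have hq2 : a ^ (q ^ 2) = a := by
    conv_rhs => rw [← hab, ← hb, inv_pow, inv_inv, ← pow_mul, ← sq]
  have hq1 : a ^ (q ^ 2 - 1) = 1 := by
    apply mul_right_cancel₀ ha0
    rw [← pow_succ, Nat.sub_add_cancel (by nlinarith), hq2, one_mul]
  have hkey : a ^ (m * (q + 1)) = 1 := by
    rw [hm, show s * (q - 1) * (q + 1) = (q ^ 2 - 1) * s by rw [hfac]; ring, pow_mul, hq1, one_pow]
  have hb' : b ^ m = a ^ m := by
    rw [← hb, inv_pow, ← pow_mul]
    refine inv_eq_of_mul_eq_one_left ?_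
    rw [← pow_add, show m + q * m = m * (q + 1) by ring, hkey]
  have h3 : a ^ (3 * m) = 1 := by
    obtain ⟨t, ht⟩ := Nat.gcd_dvd_left 3 (q + 1)
    have e : 3 * m = (q ^ 2 - 1) * t := by
      rw [hfac, hm]
      conv_lhs => rw [ht]
      conv_rhs => rw [hs]
      ring
    rw [e, pow_mul, hq1, one_pow]
  refine ⟨hb', ?_, by rw [← pow_mul, mul_comm, pow_mul, hq2]⟩
  have h : a ^ m * b ^ m * c ^ m = 1 := by rw [← mul_pow, ← mul_pow, habc, one_pow]
  rw [hb'] at h
  refine mul_left_cancel₀ (mul_ne_zero (pow_ne_zero m ha0) (pow_ne_zero m ha0)) ?_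
  rw [h, ← pow_add, ← pow_add, show m + m + m = 3 * m by ring, h3]

theorem triple_case (hq : 2 ≤ q) {a b c : K} (ha0 : a ≠ 0) (hb : (a ^ q)⁻¹ = b)
    (hc : (b ^ q)⁻¹ = c) (hca : (c ^ q)⁻¹ = a) (habc : a * b * c = 1) :
    let m := (q ^ 2 - q + 1) / Nat.gcd 3 (q + 1)
    b ^ m = a ^ m ∧ c ^ m = a ^ m ∧ (a ^ m) ^ q ^ 2 = a ^ m := by
  intro m
  obtain ⟨s, hs⟩ : Nat.gcd 3 (q + 1) ∣ q ^ 2 - q + 1 := by
    have h1 : q ^ 2 - q + 1 + 3 * q = (q + 1) * (q + 1) := by
      have : q ≤ q ^ 2 := Nat.le_self_pow two_ne_zero q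
      have : (q + 1) * (q + 1) = q ^ 2 + 2 * q + 1 := by ring
      omega
    exact (Nat.dvd_add_left ((Nat.gcd_dvd_left 3 (q + 1)).mul_right q)).mp
      (h1 ▸ (Nat.gcd_dvd_right 3 (q + 1)).mul_right _)
  have hdpos : 0 < Nat.gcd 3 (q + 1) := Nat.gcd_pos_of_pos_left _ (by norm_num)
  have hm : m = s := by
    show (q ^ 2 - q + 1) / Nat.gcd 3 (q + 1) = _
    rw [hs, Nat.mul_div_cancel_left _ hdpos]
  have hc' : c = a ^ (q ^ 2) := by rw [← hc, ← hb, inv_pow, inv_inv, ← pow_mul, ← sq]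
  have hnorm : a ^ (q ^ 2 - q + 1) = 1 := by
    have h : a * (a ^ q)⁻¹ * a ^ (q ^ 2) = 1 := by rw [hb, ← hc', habc]
    apply mul_right_cancel₀ (pow_ne_zero q ha0)
    rw [one_mul, ← pow_add, show q ^ 2 - q + 1 + q = q ^ 2 + 1 by
      have : q ≤ q ^ 2 := Nat.le_self_pow two_ne_zero q
      omega, pow_succ]
    field_simp at h
    linear_combination h
  obtain ⟨t, ht⟩ := Nat.gcd_dvd_right 3 (q + 1)
  have hkey : a ^ (m * (q + 1)) = 1 := by
    rw [ht, hm, show s * (Nat.gcd 3 (q + 1) * t) = (q ^ 2 - q + 1) * t by rw [hs]; ring, pow_mul,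
      hnorm, one_pow]
  have hb' : b ^ m = a ^ m := by
    rw [← hb, inv_pow, ← pow_mul]
    refine inv_eq_of_mul_eq_one_left ?_
    rw [← pow_add, show m + q * m = m * (q + 1) by ring, hkey]
  have hc'' : c ^ m = b ^ m := by
    calc c ^ m = ((b ^ m) ^ q)⁻¹ := by rw [← hc, inv_pow, ← pow_mul, mul_comm, pow_mul]
      _ = ((a ^ m) ^ q)⁻¹ := by rw [hb']
      _ = b ^ m := by rw [← hb, inv_pow, ← pow_mul, ← pow_mul, mul_comm]
  refine ⟨hb', hc''.trans hb', ?_⟩
  rw [← pow_mul, mul_comm, pow_mul, ← hc', hc''.trans hb']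

theorem repeated_case (hq : 2 ≤ q) (hinj : ∀ x y : K, (x ^ q)⁻¹ = (y ^ q)⁻¹ → x = y)
    (S : Finset K) (hS : S.card ≤ 2)
    (hclosed : ∀ a ∈ S, a ≠ 0 ∧ (a ^ q)⁻¹ ∈ S)
    (hprod : ∀ a ∈ S, ∀ b ∈ S, a ≠ b → a * a * b = 1 ∨ b * b * a = 1) :
    ∀ a ∈ S, (a ^ ((q + 1) / Nat.gcd 3 (q + 1))) ^ q ^ 2 = a ^ ((q + 1) / Nat.gcd 3 (q + 1)) ∧
      ∀ b ∈ S, b ^ ((q + 1) / Nat.gcd 3 (q + 1)) = a ^ ((q + 1) / Nat.gcd 3 (q + 1)) := by
  classical
  have hfix : ∀ a ∈ S, a ^ (q + 1) = 1 := by
    intro a ha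
    obtain ⟨ha0, hb⟩ := hclosed a ha
    by_contra hne
    have hab : a ≠ (a ^ q)⁻¹ := fun h => hne (by
      rw [pow_succ]
      nth_rw 2 [h]
      exact mul_inv_cancel₀ (pow_ne_zero q ha0))
    set b := (a ^ q)⁻¹ with hbdef
    obtain ⟨hb0, hb2⟩ := hclosed b hb
    have hpair : ({a, b} : Finset K) = S := Finset.eq_of_subset_of_card_le
      (by simp [Finset.insert_subset_iff, ha, hb]) (by rwa [Finset.card_pair hab])
    rw [← hpair, Finset.mem_insert, Finset.mem_singleton] at hb2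
    have hq2 : a ^ (q ^ 2) = a := by
      rcases hb2 with h | h
      · rw [hbdef, inv_pow, inv_inv, ← pow_mul, ← sq] at h
        exact h
      · exact absurd (hinj b a (h.trans hbdef)).symm hab
    have hq1 : a ^ (q ^ 2 - 1) = 1 := by
      apply mul_right_cancel₀ ha0
      rw [← pow_succ, Nat.sub_add_cancel (by nlinarith), hq2, one_mul]
    have key : a ^ (q - 2) = 1 := by
      have e : a ^ (q - 2) * (a * a) = a ^ q := by
        rw [← pow_two, ← pow_add, Nat.sub_add_cancel hq]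
      rcases hprod a ha b hb hab with h | h
      · rw [hbdef] at h
        have h1 : a * a = a ^ q := by
          field_simp at h
          linear_combination h
        exact mul_right_cancel₀ (mul_ne_zero ha0 ha0) (by rw [e, one_mul, h1])
      · have h1 : a = (a ^ q) * (a ^ q) := by
          rw [hbdef] at h
          field_simp at h
          linear_combination h
        have h2 : a ^ q = a * a := by
          conv_lhs => rw [h1, ← sq, ← pow_mul, ← pow_mul, show q * (2 * q) = q ^ 2 * 2 by ring, pow_mul, hq2, sq]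
        exact mul_right_cancel₀ (mul_ne_zero ha0 ha0) (by rw [e, one_mul, h2])
    have h3 : a ^ 3 = 1 := pow_eq_one_of_gcd key hq1 (gcd_sub_two hq)
    have hb' : b = a := by
      have : a ^ q = a * a := by
        rw [← pow_two, ← Nat.sub_add_cancel hq, pow_add, key, one_mul]
      rw [hbdef, this]
      exact inv_eq_of_mul_eq_one_left (by linear_combination h3)
    exact hab hb'.symm
  intro a ha
  set k := (q + 1) / Nat.gcd 3 (q + 1) with hk
  refine ⟨?_, fun b hb => ?_⟩
  · have h2 : a ^ q ^ 2 = a := by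
      have h := hfix a ha
      have h1 : a ^ q = a⁻¹ := eq_inv_of_mul_eq_one_left (by rw [← pow_succ]; exact h)
      rw [sq, pow_mul, h1, inv_pow, h1, inv_inv]
    rw [← pow_mul, mul_comm, pow_mul, h2]
  by_cases hba : b = a
  · rw [hba]
  have key : ∀ x y : K, x ∈ S → y ∈ S → x * x * y = 1 → y ^ k = x ^ k := by
    intro x y hx _ hxy
    have h3 : x ^ (3 * k) = 1 := by
      obtain ⟨t, ht⟩ := Nat.gcd_dvd_left 3 (q + 1)
      have e : 3 * k = (q + 1) * t := by
        conv_lhs => rw [ht]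
        rw [hk, mul_comm (Nat.gcd 3 (q + 1)) t, mul_assoc,
          Nat.mul_div_cancel' (Nat.gcd_dvd_right _ _), mul_comm]
      rw [e, pow_mul, hfix x hx, one_pow]
    have h := congrArg (· ^ k) hxy
    simp only [mul_pow, one_pow] at h
    refine mul_left_cancel₀ (mul_ne_zero (pow_ne_zero k (hclosed x hx).1) (pow_ne_zero k (hclosed x hx).1)) ?_
    rw [h, ← pow_add, ← pow_add, show k + k + k = 3 * k by ring, h3]
  rcases hprod a ha b hb (Ne.symm hba) with h | h
  · exact key a b ha hb h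
  · exact (key b a hb ha h).symm

/-- Every element has a scalar power with one of the four exponents. -/
theorem exists_scalar_pow (p : ℕ) [Fact p.Prime] [CharP F p] (hp2 : p ≠ 2)
    (hF : Fintype.card F = q ^ 2) (g : Cfsg.SU 3 F q) :
    ∃ k ∈ expo p q, ∃ c : F, smat g ^ k = Matrix.scalar (Fin 3) c := by
  classical
  obtain ⟨⟨e, he0, he⟩, hq⟩ := char_facts p hF
  set f := (smat g).charpoly with hf
  let L := AlgebraicClosure F
  haveI : CharP L p := charP_of_injective_algebraMap (algebraMap F L).injective p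
  set i := algebraMap F L
  have hfm : f.Monic := Matrix.charpoly_monic _
  have hsplit : (f.map i).Splits := IsAlgClosed.splits _
  have hmm : (f.map i).Monic := hfm.map i
  set R := (f.map i).roots with hR
  have hcard : Multiset.card R = 3 := by
    rw [hR, ← hsplit.natDegree_eq_card_roots, hfm.natDegree_map, hf, Matrix.charpoly_natDegree_eq_dim]
    simp
  have hprod : (f.map i) = (R.map fun a => X - C a).prod := hsplit.eq_prod_roots_of_monic hmm
  have hroot : ∀ a, a ∈ R ↔ (f.map i).IsRoot a := fun a => by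
    rw [hR, mem_roots hmm.ne_zero]
  have hclosed : ∀ a ∈ R, a ≠ 0 ∧ (a ^ q)⁻¹ ∈ R := fun a ha => by
    obtain ⟨h1, h2⟩ := conj_root p hF g ((hroot a).mp ha)
    exact ⟨h1, (hroot _).mpr h2⟩
  have hone : R.prod = 1 := by
    have h := hsplit.coeff_zero_eq_prod_roots_of_monic hmm
    rw [hfm.natDegree_map, coeff_map, hf, Matrix.charpoly_natDegree_eq_dim] at h
    have h2 := Matrix.det_eq_sign_charpoly_coeff (smat g)
    rw [smat_det] at h2
    have h3 : (smat g).charpoly.coeff 0 = -1 := by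
      simp [pow_succ] at h2
      linear_combination h2
    rw [h3, map_neg, map_one, ← hR] at h
    simp [pow_succ] at h
    linear_combination h
  have hinj : ∀ x y : L, (x ^ q)⁻¹ = (y ^ q)⁻¹ → x = y := fun x y h => by
    subst he
    exact (iterateFrobenius L p e).injective (by
      rw [iterateFrobenius_def, iterateFrobenius_def]; exact inv_injective h)
  have hcrit : ∀ (k : ℕ) (c : F), 0 < k → ∀ N, (∀ a ∈ R, a ^ k = i c) → (∀ a, R.count a ≤ N) →
      (smat g ^ k - Matrix.scalar (Fin 3) c) ^ N = 0 := by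
    intro k c hk N hall hN
    have hg : (X ^ k - C c : F[X]).Monic := monic_X_pow_sub_C c hk.ne'
    have hdvd : f.map i ∣ ((X ^ k - C c) ^ N).map i := by
      rw [hprod, Multiset.prod_X_sub_C_dvd_iff_le_roots ((hg.pow N).map i).ne_zero, Multiset.le_iff_count]
      intro a
      by_cases ha : a ∈ R
      · rw [Polynomial.map_pow, roots_pow, Multiset.count_nsmul]
        refine (hN a).trans (Nat.le_mul_of_pos_right N (Multiset.count_pos.mpr ?_))
        rw [mem_roots (hg.map i).ne_zero, IsRoot, Polynomial.map_sub, Polynomial.map_pow, map_X,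
          map_C, eval_sub, eval_pow, eval_X, eval_C, hall a ha, sub_self]
      · rw [Multiset.count_eq_zero.mpr ha]
        exact Nat.zero_le _
    obtain ⟨h, hh⟩ := (Polynomial.map_dvd_map i i.injective hfm).mp hdvd
    have h0 := congrArg (aeval (smat g)) hh
    rw [map_mul, hf, Matrix.aeval_self_charpoly, zero_mul] at h0
    simpa [aeval_C, Matrix.algebraMap_eq_diagonal, Pi.algebraMap_def] using h0
  have hscal : ∀ {k : ℕ} {x : L}, 0 < k → (∀ a ∈ R, a ^ k = x) → x ^ q ^ 2 = x →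
      ∃ c : F, ∀ a ∈ R, a ^ k = i c := fun {k x} _ hall hx => by
    obtain ⟨c, hc⟩ := mem_range_algebraMap (F := F) (K := L) (x := x) (by rwa [hF])
    exact ⟨c, fun a ha => by rw [hall a ha]; exact hc.symm⟩
  have hdpos : 0 < Nat.gcd 3 (q + 1) := Nat.gcd_pos_of_pos_left _ (by norm_num)
  have hdle : Nat.gcd 3 (q + 1) ≤ 3 := Nat.le_of_dvd (by norm_num) (Nat.gcd_dvd_left _ _)
  have hdq : Nat.gcd 3 (q + 1) ≤ q + 1 := Nat.le_of_dvd (by omega) (Nat.gcd_dvd_right _ _)
  by_cases hnd : R.Nodup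
  · have fin : ∀ {k : ℕ} {x : L}, 0 < k → (∀ a ∈ R, a ^ k = x) → x ^ q ^ 2 = x →
        ∃ c : F, smat g ^ k = Matrix.scalar (Fin 3) c := by
      intro k x hk hall hx
      obtain ⟨c, hc⟩ := hscal hk hall hx
      refine ⟨c, sub_eq_zero.mp ?_⟩
      simpa using hcrit k c hk 1 hc (fun a => Multiset.nodup_iff_count_le_one.mp hnd a)
    by_cases hall : ∀ a ∈ R, (a ^ q)⁻¹ = a
    · refine ⟨q + 1, by simp [expo], fin (x := 1) (by omega) (fun a ha => ?_) (one_pow _)⟩
      rw [pow_succ]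
      nth_rw 2 [← hall a ha]
      exact mul_inv_cancel₀ (pow_ne_zero q (hclosed a ha).1)
    push Not at hall
    obtain ⟨a, ha, hne⟩ := hall
    set b := (a ^ q)⁻¹ with hb
    have hbR : b ∈ R := (hclosed a ha).2
    obtain ⟨c, hc⟩ : ∃ c, R = a ::ₘ b ::ₘ {c} := by
      have h1 : ({a, b} : Multiset L) ≤ R := by
        rw [Multiset.le_iff_count]
        intro x
        have hnd2 : ({a, b} : Multiset L).Nodup := by simp [Ne.symm hne]
        by_cases hx : x ∈ ({a, b} : Multiset L)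
        · refine (Multiset.nodup_iff_count_le_one.mp hnd2 x).trans (Multiset.one_le_count_iff_mem.mpr ?_)
          simp at hx
          rcases hx with rfl | rfl
          · exact ha
          · exact hbR
        · rw [Multiset.count_eq_zero.mpr hx]
          exact Nat.zero_le _
      obtain ⟨T, hT⟩ := Multiset.le_iff_exists_add.mp h1
      have hT1 : Multiset.card T = 1 := by
        have := congrArg Multiset.card hT
        simp [hcard] at this
        omega
      obtain ⟨c, rfl⟩ := Multiset.card_eq_one.mp hT1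
      exact ⟨c, by rw [hT]; simp⟩
    have hnd' := hnd
    rw [hc] at hnd'
    simp at hnd'
    have habc : a * b * c = 1 := by
      rw [hc] at hone
      simpa [mul_assoc] using hone
    have hmem : ∀ x, x ∈ R ↔ x = a ∨ x = b ∨ x = c := fun x => by rw [hc]; simp
    have hbne : (b ^ q)⁻¹ ≠ b := fun h => hnd'.1.1 (hinj b a (h.trans hb)).symm
    rcases (hmem _).mp (hclosed b hbR).2 with h | h | h
    · obtain ⟨h1, h2, h3⟩ := pair_case hq (hclosed a ha).1 hb.symm h habc
      refine ⟨(q ^ 2 - 1) / Nat.gcd 3 (q + 1), by simp [expo], fin (x := a ^ ((q ^ 2 - 1) / Nat.gcd 3 (q + 1)))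
        (Nat.div_pos ?_ hdpos) (fun x hx => ?_) h3⟩
      · have : 2 * q ≤ q ^ 2 := by rw [sq]; exact Nat.mul_le_mul_right q hq
        omega
      · rcases (hmem x).mp hx with rfl | rfl | rfl
        exacts [rfl, h1, h2]
    · exact absurd h hbne
    · have hcR : c ∈ R := (hmem c).mpr (Or.inr (Or.inr rfl))
      have hca : (c ^ q)⁻¹ = a := by
        rcases (hmem _).mp (hclosed c hcR).2 with h' | h' | h'
        · exact h'
        · exact absurd (hinj c a (h'.trans hb)) (Ne.symm hnd'.1.2)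
        · exact absurd (hinj c b (h'.trans h.symm)) (Ne.symm hnd'.2)
      obtain ⟨h1, h2, h3⟩ := triple_case hq (hclosed a ha).1 hb.symm h hca habc
      refine ⟨(q ^ 2 - q + 1) / Nat.gcd 3 (q + 1), by simp [expo], fin (x := a ^ ((q ^ 2 - q + 1) / Nat.gcd 3 (q + 1)))
        (Nat.div_pos ?_ hdpos) (fun x hx => ?_) h3⟩
      · have : 2 * q ≤ q ^ 2 := by rw [sq]; exact Nat.mul_le_mul_right q hq
        omega
      · rcases (hmem x).mp hx with rfl | rfl | rfl
        exacts [rfl, h1, h2]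
  · set S := R.toFinset with hS
    have hS2 : S.card ≤ 2 := by
      have h1 : S.card ≤ Multiset.card R := Multiset.toFinset_card_le R
      have h2 : S.card ≠ Multiset.card R := fun h => hnd (Multiset.toFinset_card_eq_card_iff_nodup.mp h)
      omega
    have hpr : ∀ a ∈ S, ∀ b ∈ S, a ≠ b → a * a * b = 1 ∨ b * b * a = 1 := by
      intro a ha b hb hab
      have hsub : ({a, b} : Finset L) = S := Finset.eq_of_subset_of_card_le
        (by simp [Finset.insert_subset_iff, ha, hb]) (by rwa [Finset.card_pair hab])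
      have h1 := Multiset.toFinset_sum_count_eq R
      rw [← hS, ← hsub, Finset.sum_pair hab, hcard] at h1
      have h2 := Finset.prod_multiset_count R
      rw [← hS, ← hsub, Finset.prod_pair hab, hone] at h2
      have ha' : 1 ≤ R.count a := Multiset.one_le_count_iff_mem.mpr (Multiset.mem_toFinset.mp ha)
      have hb' : 1 ≤ R.count b := Multiset.one_le_count_iff_mem.mpr (Multiset.mem_toFinset.mp hb)
      rcases (show R.count a = 2 ∧ R.count b = 1 ∨ R.count a = 1 ∧ R.count b = 2 by omega) with ⟨e1, e2⟩ | ⟨e1, e2⟩ <;>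
        rw [e1, e2] at h2
      · exact Or.inl (by linear_combination -h2)
      · exact Or.inr (by linear_combination -h2)
    obtain ⟨a, ha⟩ : ∃ a, a ∈ R := Multiset.card_pos_iff_exists_mem.mp (by omega)
    obtain ⟨h3, hall⟩ := repeated_case hq hinj S hS2 (fun x hx => by
      simpa [S] using hclosed x (Multiset.mem_toFinset.mp hx)) hpr a (Multiset.mem_toFinset.mpr ha)
    set k := (q + 1) / Nat.gcd 3 (q + 1) with hk
    have hkpos : 0 < k := Nat.div_pos hdq hdpos
    obtain ⟨c, hc⟩ := hscal hkpos (fun x hx => hall x (Multiset.mem_toFinset.mpr hx)) h3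
    have hp3 : 3 ≤ p := by
      have := (Fact.out : p.Prime).two_le
      omega
    have h0 := hcrit k c hkpos p hc (fun x => (Multiset.count_le_card x R).trans (hcard ▸ hp3))
    haveI : CharP (Matrix (Fin 3) (Fin 3) F) p := inferInstance
    rw [sub_pow_char_of_commute p ((Matrix.scalar_commute _ (Commute.all _) _).symm)] at h0
    refine ⟨p * (q + 1) / Nat.gcd 3 (q + 1), by simp [expo], c ^ p, ?_⟩
    rw [Nat.mul_div_assoc _ (Nat.gcd_dvd_right _ _), ← hk, mul_comm, pow_mul, sub_eq_zero.mp h0, map_pow]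

end Cfsg.Lib.Spec.UThree
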