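import Mathlib
import Cfsg.Agent.Lib.Spec.UnitaryThreeUpper

/-!
# Elements of the three-dimensional unitary group with prescribed projective orders
-/

set_option autoImplicit false
set_option linter.style.longLine false
set_option linter.style.haveILetI false

namespace Cfsg.Lib.Spec.UThree

open Matrix Cfsg.Lib.Linear.Herm

variable {F : Type*} [Field F] [Fintype F] {q : ℕ}

/-- Only multiples of `m` give scalar powers. -/
def ScalarOnly (M : Matrix (Fin 3) (Fin 3) F) (m : ℕ) : Prop :=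
  ∀ k, (∃ c : F, M ^ k = Matrix.scalar (Fin 3) c) → m ∣ k

theorem exists_of_form (hF : Fintype.card F = q ^ 2) (M : Matrix (Fin 3) (Fin 3) F)
    (hdet : M.det = 1) (hM : Mᵀ * M.map (· ^ q) = 1) : ∃ g : Cfsg.SU 3 F q, smat g = M := by
  refine ⟨⟨⟨M, hdet⟩, fun u v => ?_⟩, rfl⟩
  show (M *ᵥ u) ⬝ᵥ (fun i => (M *ᵥ v) i ^ q) = u ⬝ᵥ fun i => v i ^ q
  have h : (fun i => (M *ᵥ v) i ^ q) = M.map (· ^ q) *ᵥ fun i => v i ^ q := by
    funext i
    simp only [← frob_apply hF, Matrix.mulVec, dotProduct, map_sum, map_mul, Matrix.map_apply]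
  rw [h, dotProduct_comm, Matrix.dotProduct_mulVec, ← Matrix.mulVec_transpose, Matrix.mulVec_mulVec,
    hM, Matrix.one_mulVec, dotProduct_comm]

theorem map_pow_mul (hF : Fintype.card F = q ^ 2) (A B : Matrix (Fin 3) (Fin 3) F) :
    (A * B).map (· ^ q) = A.map (· ^ q) * B.map (· ^ q) := by
  have h : ∀ C : Matrix (Fin 3) (Fin 3) F, C.map (· ^ q) = C.map (frob hF) := fun C => by
    ext i j; simp [frob_apply]
  rw [h, h, h, Matrix.map_mul]

/-- The isotropic form. -/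
def antiDiag (F : Type*) [Field F] : Matrix (Fin 3) (Fin 3) F := !![0, 0, 1; 0, 1, 0; 1, 0, 0]

theorem exists_basis_change (hF : Fintype.card F = q ^ 2) (h2 : (2 : F) ≠ 0) :
    ∃ P P' : Matrix (Fin 3) (Fin 3) F, P * P' = 1 ∧ P' * P = 1 ∧
      Pᵀ * P.map (· ^ q) = antiDiag F := by
  have hq := two_le_q hF
  have hm1 : (-1 : F) ^ q = -1 := by rw [← frob_apply hF, map_neg, map_one]
  obtain ⟨x, hx⟩ := exists_norm_eq hF (neg_ne_zero.mpr one_ne_zero) hm1
  set ν : F := (x : F)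
  have hν : ν * ν ^ q = -1 := by rw [← pow_succ']; exact hx
  have hq2 : (2 : F) ^ q = 2 := by rw [← frob_apply hF, map_ofNat]
  have hh : (2⁻¹ : F) ^ q = 2⁻¹ := by rw [inv_pow, hq2]
  have hn : ∀ z : F, (-z) ^ q = -(z ^ q) := fun z => by
    rw [← frob_apply hF, map_neg, frob_apply]
  refine ⟨!![2⁻¹, 0, 1; ν * 2⁻¹, 0, -ν; 0, 1, 0], _, Matrix.mul_nonsing_inv _ ?_,
    Matrix.nonsing_inv_mul _ ?_, ?_⟩
  · rw [isUnit_iff_ne_zero, Matrix.det_fin_three]
    simp [ν]
    exact (by rw [mul_comm, ← add_mul, ← two_mul] ; field_simp; exact x.ne_zero)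
  · rw [isUnit_iff_ne_zero, Matrix.det_fin_three]
    simp [ν]
    exact (by rw [mul_comm, ← add_mul, ← two_mul] ; field_simp; exact x.ne_zero)
  · ext i j
    fin_cases i <;> fin_cases j <;>
      simp [antiDiag, Matrix.mul_apply, Fin.sum_univ_three, hh, hn, mul_pow,
        zero_pow (show q ≠ 0 by omega)] <;> grind

theorem exists_of_antiDiag (hF : Fintype.card F = q ^ 2) (h2 : (2 : F) ≠ 0)
    (M : Matrix (Fin 3) (Fin 3) F) (hdet : M.det = 1)
    (hM : Mᵀ * antiDiag F * M.map (· ^ q) = antiDiag F) {m : ℕ} (hm : ScalarOnly M m) :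
    ∃ g : Cfsg.SU 3 F q, ScalarOnly (smat g) m := by
  obtain ⟨P, P', h1, h1', hP⟩ := exists_basis_change hF h2
  obtain ⟨g, hg⟩ := exists_of_form hF (P * M * P') (by
    rw [Matrix.det_mul, Matrix.det_mul, hdet, mul_one, ← Matrix.det_mul, h1, Matrix.det_one]) (by
    have e : P'ᵀ * antiDiag F * P'.map (· ^ q) = 1 := by
      rw [← hP, ← Matrix.mul_assoc, ← Matrix.transpose_mul, h1, Matrix.transpose_one, Matrix.one_mul,
        ← map_pow_mul hF, h1]
      ext i j
      simp only [Matrix.map_apply, Matrix.one_apply]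
      split_ifs <;> simp [zero_pow (show q ≠ 0 by have := two_le_q hF; omega)]
    calc (P * M * P')ᵀ * (P * M * P').map (· ^ q)
        = P'ᵀ * (Mᵀ * (Pᵀ * P.map (· ^ q)) * M.map (· ^ q)) * P'.map (· ^ q) := by
          simp only [Matrix.transpose_mul, map_pow_mul hF, Matrix.mul_assoc]
      _ = 1 := by rw [hP, hM, e])
  refine ⟨g, fun k ⟨c, hc⟩ => hm k ⟨c, ?_⟩⟩
  have hk : ∀ n, (P * M * P') ^ n = P * M ^ n * P' := fun n => by
    induction n with
    | zero => rw [pow_zero, pow_zero, Matrix.mul_one, h1]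
    | succ n ih =>
      rw [pow_succ, ih, pow_succ]
      calc P * M ^ n * P' * (P * M * P') = P * M ^ n * (P' * P) * (M * P') := by
            simp only [Matrix.mul_assoc]
        _ = _ := by rw [h1', Matrix.mul_one]; simp only [Matrix.mul_assoc]
  rw [hg, hk] at hc
  calc M ^ k = P' * (P * M ^ k * P') * P := by
        simp only [← Matrix.mul_assoc, h1', Matrix.one_mul]
        rw [Matrix.mul_assoc, h1', Matrix.mul_one]
    _ = Matrix.scalar (Fin 3) c := by
        rw [hc, ← (Matrix.scalar_commute c (Commute.all c) P').eq, Matrix.mul_assoc, h1', Matrix.mul_one]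

theorem exists_gen (hF : Fintype.card F = q ^ 2) : ∃ a : F, a ≠ 0 ∧ orderOf a = q ^ 2 - 1 := by
  classical
  obtain ⟨u, hu⟩ := IsCyclic.exists_ofOrder_eq_natCard (α := Fˣ)
  refine ⟨u, u.ne_zero, ?_⟩
  rw [orderOf_units, hu, Nat.card_units, Nat.card_eq_fintype_card, hF]

theorem dvd_of_gcd {n e k : ℕ} (h1 : n ∣ 3 * k) (h2 : n ∣ e * k) (hn : Nat.gcd 3 e ∣ n) :
    n / Nat.gcd 3 e ∣ k := by
  have h : n ∣ Nat.gcd 3 e * k := by rw [← Nat.gcd_mul_right]; exact Nat.dvd_gcd h1 h2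
  have hpos : 0 < Nat.gcd 3 e := Nat.gcd_pos_of_pos_left _ (by norm_num)
  exact Nat.dvd_of_mul_dvd_mul_left hpos (by rwa [Nat.mul_div_cancel' hn])

theorem scalar_diag {v : Fin 3 → F} {c : F} (h : Matrix.diagonal v = Matrix.scalar (Fin 3) c)
    (i : Fin 3) : v i = c := by
  have h1 := congrFun (congrFun h i) i
  simpa using h1

theorem exists_norm_torus (hF : Fintype.card F = q ^ 2) :
    ∃ g : Cfsg.SU 3 F q, ScalarOnly (smat g) (q + 1) := by
  have hq := two_le_q hF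
  obtain ⟨a, ha0, ha⟩ := exists_gen hF
  have hfac : q ^ 2 - 1 = (q - 1) * (q + 1) := by
    obtain ⟨r, rfl⟩ : ∃ r, q = r + 1 := ⟨q - 1, by omega⟩
    rw [Nat.add_sub_cancel]
    have : (r + 1) ^ 2 = r * (r + 1 + 1) + 1 := by ring
    omega
  set z := a ^ (q - 1) with hz
  have hz1 : z ^ (q + 1) = 1 := by rw [← pow_mul, ← hfac, ← ha, pow_orderOf_eq_one]
  have hz0 : z ≠ 0 := pow_ne_zero _ ha0
  obtain ⟨g, hg⟩ := exists_of_form hF (Matrix.diagonal ![z, z⁻¹, 1])
    (by simp [Matrix.det_diagonal, Fin.prod_univ_three, hz0]) (by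
    rw [Matrix.diagonal_transpose, Matrix.diagonal_map (f := fun x : F => x ^ q) (zero_pow (show q ≠ 0 by omega)), Matrix.diagonal_mul_diagonal,
      ← Matrix.diagonal_one]
    congr 1
    funext i
    fin_cases i <;> simp [← pow_succ', hz1, ← mul_inv])
  refine ⟨g, fun k ⟨c, hc⟩ => ?_⟩
  rw [hg, Matrix.diagonal_pow] at hc
  have h0 : z ^ k = c := by simpa using scalar_diag hc 0
  have h2 : (1 : F) = c := by simpa using scalar_diag hc 2
  have h : q ^ 2 - 1 ∣ (q - 1) * k := ha ▸ orderOf_dvd_of_pow_eq_one (by rw [pow_mul, ← hz, h0, h2])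
  rw [hfac] at h
  exact Nat.dvd_of_mul_dvd_mul_left (by omega) h

theorem exists_split_torus (hF : Fintype.card F = q ^ 2) (h2 : (2 : F) ≠ 0) :
    ∃ g : Cfsg.SU 3 F q, ScalarOnly (smat g) ((q ^ 2 - 1) / Nat.gcd 3 (q + 1)) := by
  have hq := two_le_q hF
  obtain ⟨a, ha0, ha⟩ := exists_gen hF
  have haq : a ^ (q ^ 2) = a := by rw [← hF, FiniteField.pow_card]
  have hfac : (q - 1) * (q + 1) + 1 = q ^ 2 := by
    obtain ⟨r, rfl⟩ : ∃ r, q = r + 1 := ⟨q - 1, by omega⟩
    rw [Nat.add_sub_cancel]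
    ring
  have hone : a ^ ((q - 1) * (q + 1)) = 1 := by
    apply mul_right_cancel₀ ha0
    rw [← pow_succ, hfac, haq, one_mul]
  refine exists_of_antiDiag hF h2 (Matrix.diagonal ![a, a ^ (q - 1), (a ^ q)⁻¹]) ?_ ?_ ?_
  · rw [Matrix.det_diagonal, Fin.prod_univ_three]
    simp only [Matrix.cons_val_zero, Matrix.cons_val_one, Matrix.cons_val]
    rw [← pow_succ', Nat.sub_add_cancel (by omega), mul_inv_cancel₀ (pow_ne_zero q ha0)]
  · rw [Matrix.diagonal_transpose, Matrix.diagonal_map (f := fun x : F => x ^ q) (zero_pow (show q ≠ 0 by omega))]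
    ext i j
    fin_cases i <;> fin_cases j <;>
      simp [antiDiag, Matrix.mul_apply, Fin.sum_univ_three, ← pow_mul, ← sq, haq, ha0,
        zero_pow (show q ≠ 0 by omega)]
    rw [← pow_add, show q - 1 + (q - 1) * q = (q - 1) * (q + 1) by ring, hone]
  · intro k ⟨c, hc⟩
    rw [Matrix.diagonal_pow] at hc
    have h0 : a ^ k = c := by simpa using scalar_diag hc 0
    have h1 : (a ^ (q - 1)) ^ k = c := by simpa using scalar_diag hc 1
    have h3 : ((a ^ q) ^ k)⁻¹ = c := by simpa using scalar_diag hc 2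
    have hA : q ^ 2 - 1 ∣ (q + 1) * k := by
      refine ha ▸ orderOf_dvd_of_pow_eq_one ?_
      rw [Nat.succ_mul, pow_add, h0, ← h3, pow_mul, mul_inv_cancel₀ (pow_ne_zero _ (pow_ne_zero _ ha0))]
    have hB : q ^ 2 - 1 ∣ 3 * k := by
      have e1 : a ^ ((q + 1) * k) = 1 := orderOf_dvd_iff_pow_eq_one.mp (ha.symm ▸ hA)
      refine ha ▸ orderOf_dvd_of_pow_eq_one ?_
      have e2 : a ^ (3 * k) * a ^ ((q - 1) * k) = a ^ ((q + 1) * k) * a ^ k := by
        rw [← pow_add, ← pow_add]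
        congr 1
        obtain ⟨r, rfl⟩ : ∃ r, q = r + 1 := ⟨q - 1, by omega⟩
        rw [Nat.add_sub_cancel]
        ring
      rw [e1, one_mul, pow_mul a (q - 1), h1, h0] at e2
      exact mul_eq_right₀ (h0 ▸ pow_ne_zero k ha0) |>.mp e2
    refine dvd_of_gcd hB hA ((Nat.gcd_dvd_right 3 (q + 1)).trans ⟨q - 1, ?_⟩)
    rw [mul_comm]
    omega

theorem exists_mixed (p : ℕ) [Fact p.Prime] [CharP F p] (hp2 : p ≠ 2) (hF : Fintype.card F = q ^ 2) :
    ∃ g : Cfsg.SU 3 F q, ScalarOnly (smat g) (p * (q + 1) / Nat.gcd 3 (q + 1)) := by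
  obtain ⟨⟨e, he0, he⟩, hq⟩ := char_facts p hF
  have h2 : (2 : F) ≠ 0 := Ring.two_ne_zero (ringChar.eq F p ▸ hp2)
  obtain ⟨a, ha0, ha⟩ := exists_gen hF
  obtain ⟨t, ht0, ht⟩ := exists_trace_zero (frob_ne_id hF) (frob_frob hF)
  rw [frob_apply] at ht
  have hfac : q ^ 2 - 1 = (q - 1) * (q + 1) := by
    obtain ⟨r, rfl⟩ : ∃ r, q = r + 1 := ⟨q - 1, by omega⟩
    rw [Nat.add_sub_cancel]
    have : (r + 1) ^ 2 = r * (r + 1 + 1) + 1 := by ring
    omega
  set z := a ^ (q - 1) with hz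
  have hz0 : z ≠ 0 := pow_ne_zero _ ha0
  have hz1 : z * z ^ q = 1 := by rw [← pow_succ', ← pow_mul, ← hfac, ← ha, pow_orderOf_eq_one]
  have hn : ∀ x : F, (x ^ 2)⁻¹ ^ q = ((x ^ q) ^ 2)⁻¹ := fun x => by
    rw [inv_pow, ← pow_mul, ← pow_mul, mul_comm]
  refine exists_of_antiDiag hF h2 !![z, 0, z * t; 0, (z ^ 2)⁻¹, 0; 0, 0, z] ?_ ?_ ?_
  · simp [Matrix.det_fin_three, pow_two, hz0, mul_comm]
  · ext i j
    fin_cases i <;> fin_cases j <;>
      simp [antiDiag, Matrix.mul_apply, Fin.sum_univ_three, hn, mul_pow, hz1,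
        zero_pow (show q ≠ 0 by omega)]
    · rw [← mul_inv, ← mul_pow, hz1, one_pow, inv_one]
    all_goals grind
  · intro k ⟨c, hc⟩
    have hk : ∀ n : ℕ, !![z, 0, z * t; 0, (z ^ 2)⁻¹, 0; 0, 0, z] ^ n =
        !![z ^ n, 0, z ^ n * (n * t); 0, ((z ^ n) ^ 2)⁻¹, 0; 0, 0, z ^ n] := fun n => by
      induction n with
      | zero =>
        ext i j
        fin_cases i <;> fin_cases j <;> simp
      | succ n ih =>
        rw [pow_succ, ih]
        ext i j
        fin_cases i <;> fin_cases j <;>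
          simp [Matrix.mul_apply, Fin.sum_univ_three, pow_succ, mul_comm, mul_left_comm] <;> ring
    rw [hk] at hc
    have h00 : z ^ k = c := by simpa using congrFun (congrFun hc 0) 0
    have h11 : ((z ^ k) ^ 2)⁻¹ = c := by simpa using congrFun (congrFun hc 1) 1
    have h02 : z ^ k * ((k : F) * t) = 0 := by simpa using congrFun (congrFun hc 0) 2
    have hpk : p ∣ k := by
      rw [← CharP.cast_eq_zero_iff F p k]
      simpa [pow_ne_zero k hz0, ht0] using h02
    have h3 : z ^ (3 * k) = 1 := by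
      rw [mul_comm, pow_mul]
      rw [← h00] at h11
      have hne := pow_ne_zero k hz0
      field_simp at h11
      linear_combination -h11
    have h : (q - 1) * (q + 1) ∣ (q - 1) * (3 * k) := by
      rw [← hfac]
      exact ha ▸ orderOf_dvd_of_pow_eq_one (by rw [pow_mul, ← hz, h3])
    have hdk : (q + 1) / Nat.gcd 3 (q + 1) ∣ k :=
      dvd_of_gcd (Nat.dvd_of_mul_dvd_mul_left (by omega) h) (Dvd.intro k rfl) (Nat.gcd_dvd_right _ _)
    rw [Nat.mul_div_assoc _ (Nat.gcd_dvd_right _ _)]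
    refine Nat.Coprime.mul_dvd_of_dvd_of_dvd ?_ hpk hdk
    refine Nat.Coprime.coprime_dvd_right (Nat.div_dvd_of_dvd (Nat.gcd_dvd_right _ _)) ?_
    rw [(Fact.out : p.Prime).coprime_iff_not_dvd, Nat.dvd_add_right (he ▸ dvd_pow_self p he0.ne')]
    exact fun h => (Fact.out : p.Prime).ne_one (Nat.dvd_one.mp h)

end Cfsg.Lib.Spec.UThree
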