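import Mathlib
import Cfsg.Agent.Lib.Linear.AbsorbPSL
import Cfsg.Agent.Lib.Spec.UnitaryThreeUpper

/-!
# Element orders of the three-dimensional projective special linear group
-/

set_option autoImplicit false
set_option linter.style.longLine false
set_option linter.style.haveILetI false

namespace Cfsg.Lib.Spec.LThree

open Matrix Polynomial Cfsg.Lib.Linear.AbsorbPSL
open scoped MatrixGroups

variable {F : Type*} [Field F] [Fintype F]

theorem gcd_dvd_quad (q : ℕ) (hq : 1 ≤ q) : Nat.gcd 3 (q - 1) ∣ q ^ 2 + q + 1 := by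
  have h := gcd_dvd_geomSum 3 q hq
  rw [Finset.sum_range_succ, Finset.sum_range_succ, Finset.sum_range_one, pow_zero, pow_one] at h
  rwa [show q ^ 2 + q + 1 = 1 + q + q ^ 2 by ring]

/-- The exponents. -/
def expo (p q : ℕ) : Set ℕ :=
  {k | k = (q ^ 2 + q + 1) / Nat.gcd 3 (q - 1) ∨ k = (q ^ 2 - 1) / Nat.gcd 3 (q - 1) ∨ k = q - 1 ∨
    k = p * (q - 1) / Nat.gcd 3 (q - 1) ∨ (p = 2 ∧ k = 4)}

theorem sq_sub_one (q : ℕ) : q ^ 2 - 1 = (q + 1) * (q - 1) := by
  rw [← one_pow (M := ℕ) 2, Nat.sq_sub_sq, one_pow]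

variable {K : Type*} [Field K]

theorem pow_sub_one_eq {q : ℕ} (hq : 1 ≤ q) {a : K} (ha : a ≠ 0) (h : a ^ q = a) : a ^ (q - 1) = 1 :=
  mul_right_cancel₀ ha (by rw [← pow_succ, Nat.sub_add_cancel hq, h, one_mul])

theorem pair_case {q : ℕ} (hq : 2 ≤ q) {a b c : K} (ha0 : a ≠ 0) (hb : a ^ q = b) (hab : b ^ q = a)
    (habc : a * b * c = 1) :
    let m := (q ^ 2 - 1) / Nat.gcd 3 (q - 1)
    b ^ m = a ^ m ∧ c ^ m = a ^ m ∧ (a ^ m) ^ q = a ^ m := by
  intro m
  obtain ⟨s, hs⟩ : Nat.gcd 3 (q - 1) ∣ q - 1 := Nat.gcd_dvd_right _ _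
  have hdpos : 0 < Nat.gcd 3 (q - 1) := Nat.gcd_pos_of_pos_left _ (by norm_num)
  have hm : m = (q + 1) * s := by
    show (q ^ 2 - 1) / Nat.gcd 3 (q - 1) = _
    rw [sq_sub_one]
    generalize Nat.gcd 3 (q - 1) = d at hs hdpos ⊢
    rw [hs, show (q + 1) * (d * s) = d * ((q + 1) * s) by ring, Nat.mul_div_cancel_left _ hdpos]
  have hq2 : a ^ (q ^ 2) = a := by rw [sq, pow_mul, hb, hab]
  have hq1 : a ^ (q ^ 2 - 1) = 1 := pow_sub_one_eq (Nat.one_le_pow _ _ (by omega)) ha0 hq2
  have hkey : (a ^ m) ^ (q - 1) = 1 := by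
    rw [← pow_mul, hm, show (q + 1) * s * (q - 1) = (q + 1) * (q - 1) * s by ring, ← sq_sub_one, pow_mul, hq1,
      one_pow]
  have hfix : (a ^ m) ^ q = a ^ m := by
    conv_lhs => rw [← Nat.sub_add_cancel (show 1 ≤ q by omega), pow_succ, hkey, one_mul]
  have hb' : b ^ m = a ^ m := by rw [← hb, ← pow_mul, mul_comm, pow_mul, hfix]
  have h3 : a ^ (3 * m) = 1 := by
    obtain ⟨t, ht⟩ := Nat.gcd_dvd_left 3 (q - 1)
    have e : 3 * m = (q ^ 2 - 1) * t := by
      rw [sq_sub_one, hm]
      conv_lhs => rw [ht]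
      conv_rhs => rw [hs]
      ring
    rw [e, pow_mul, hq1, one_pow]
  refine ⟨hb', ?_, hfix⟩
  have h : a ^ m * b ^ m * c ^ m = 1 := by rw [← mul_pow, ← mul_pow, habc, one_pow]
  rw [hb'] at h
  refine mul_left_cancel₀ (mul_ne_zero (pow_ne_zero m ha0) (pow_ne_zero m ha0)) ?_
  rw [h, ← pow_add, ← pow_add, show m + m + m = 3 * m by ring, h3]

theorem triple_case {q : ℕ} (hq : 2 ≤ q) {a b c : K} (ha0 : a ≠ 0) (hb : a ^ q = b) (hc : b ^ q = c)
    (habc : a * b * c = 1) :
    let m := (q ^ 2 + q + 1) / Nat.gcd 3 (q - 1)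
    b ^ m = a ^ m ∧ c ^ m = a ^ m ∧ (a ^ m) ^ q = a ^ m := by
  intro m
  have hmul : Nat.gcd 3 (q - 1) * m = q ^ 2 + q + 1 := Nat.mul_div_cancel' (gcd_dvd_quad q (by omega))
  obtain ⟨s, hs⟩ : Nat.gcd 3 (q - 1) ∣ q - 1 := Nat.gcd_dvd_right _ _
  have hnorm : a ^ (q ^ 2 + q + 1) = 1 := by
    have h1 : a ^ (q ^ 2) = c := by rw [sq, pow_mul, hb, hc]
    rw [pow_succ, pow_add, h1, hb]
    linear_combination habc
  have hkey : (a ^ m) ^ (q - 1) = 1 := by
    rw [← pow_mul, hs, show m * (Nat.gcd 3 (q - 1) * s) = Nat.gcd 3 (q - 1) * m * s by ring, hmul, pow_mul, hnorm,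
      one_pow]
  have hfix : (a ^ m) ^ q = a ^ m := by
    conv_lhs => rw [← Nat.sub_add_cancel (show 1 ≤ q by omega), pow_succ, hkey, one_mul]
  have hb' : b ^ m = a ^ m := by rw [← hb, ← pow_mul, mul_comm, pow_mul, hfix]
  refine ⟨hb', ?_, hfix⟩
  rw [← hc, ← pow_mul, mul_comm, pow_mul, hb', hfix]

variable (p : ℕ) [Fact p.Prime] [CharP F p]

include p in
/-- Every element has a scalar power with one of the exponents. -/
theorem exists_scalar_pow (g : Matrix.SpecialLinearGroup (Fin 3) F) :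
    ∃ k ∈ expo p (Fintype.card F), ∃ c : F,
      (g : Matrix (Fin 3) (Fin 3) F) ^ k = Matrix.scalar (Fin 3) c := by
  classical
  set q := Fintype.card F with hqF
  have hq : 2 ≤ q := Fintype.one_lt_card
  obtain ⟨e, -, hqe⟩ := FiniteField.card F p
  set M := (g : Matrix (Fin 3) (Fin 3) F)
  set f := M.charpoly with hf
  let L := AlgebraicClosure F
  haveI : CharP L p := charP_of_injective_algebraMap (algebraMap F L).injective p
  set i := algebraMap F L
  have hfm : f.Monic := Matrix.charpoly_monic _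
  have hsplit : (f.map i).Splits := IsAlgClosed.splits _
  have hmm : (f.map i).Monic := hfm.map i
  set R := (f.map i).roots with hR
  have hcard : Multiset.card R = 3 := by
    rw [hR, ← hsplit.natDegree_eq_card_roots, hfm.natDegree_map, hf, Matrix.charpoly_natDegree_eq_dim]
    simp
  have hprod : (f.map i) = (R.map fun a => X - C a).prod := hsplit.eq_prod_roots_of_monic hmm
  have hone : R.prod = 1 := by
    have h := hsplit.coeff_zero_eq_prod_roots_of_monic hmm
    rw [hfm.natDegree_map, coeff_map, hf, Matrix.charpoly_natDegree_eq_dim] at h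
    have h2 := Matrix.det_eq_sign_charpoly_coeff M
    rw [g.2] at h2
    have h3 : M.charpoly.coeff 0 = -1 := by
      simp [pow_succ] at h2
      linear_combination h2
    rw [h3, map_neg, map_one, ← hR] at h
    simp [pow_succ] at h
    linear_combination h
  let φ : L →+* L := iterateFrobenius L p e
  have hφ : ∀ x, φ x = x ^ q := fun x => by
    show iterateFrobenius L p e x = _
    rw [iterateFrobenius_def, hqF, hqe]
  have hinj : ∀ x y : L, x ^ q = y ^ q → x = y := fun x y h => φ.injective (by rw [hφ, hφ, h])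
  have hroot : ∀ a, a ∈ R → (f.map i).IsRoot a := fun a ha => (mem_roots hmm.ne_zero).1 ha
  have hclosed : ∀ a ∈ R, a ≠ 0 ∧ a ^ q ∈ R := fun a ha => by
    refine ⟨fun h0 => ?_, (mem_roots hmm.ne_zero).2 ?_⟩
    · rw [h0] at ha
      rw [Multiset.prod_eq_zero ha] at hone
      exact zero_ne_one hone
    · have hc : φ.comp i = i := RingHom.ext fun c => by
        rw [RingHom.comp_apply, hφ, ← map_pow, hqF, FiniteField.pow_card]
      rw [IsRoot, ← hφ, eval_map, ← hc, ← hom_eval₂, ← eval_map, (hroot a ha).eq_zero, map_zero]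
  have hcrit : ∀ (k : ℕ) (c : F), 0 < k → ∀ N, (∀ a ∈ R, a ^ k = i c) → (∀ a, R.count a ≤ N) →
      (M ^ k - Matrix.scalar (Fin 3) c) ^ N = 0 := by
    intro k c hk N hall hN
    have hg : (X ^ k - C c : F[X]).Monic := monic_X_pow_sub_C c hk.ne'
    have hdvd : f.map i ∣ ((X ^ k - C c) ^ N).map i := by
      rw [hprod, Multiset.prod_X_sub_C_dvd_iff_le_roots ((hg.pow N).map i).ne_zero, Multiset.le_iff_count]
      intro a
      by_cases ha : a ∈ R
      · rw [Polynomial.map_pow, roots_pow, Multiset.count_nsmul]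
        refine (hN a).trans (Nat.le_mul_of_pos_right N (Multiset.count_pos.mpr ?_))
        rw [mem_roots (hg.map i).ne_zero, IsRoot, Polynomial.map_sub, Polynomial.map_pow, map_X,
          map_C, eval_sub, eval_pow, eval_X, eval_C, hall a ha, sub_self]
      · rw [Multiset.count_eq_zero.mpr ha]
        exact Nat.zero_le _
    obtain ⟨h, hh⟩ := (Polynomial.map_dvd_map i i.injective hfm).mp hdvd
    have h0 := congrArg (aeval M) hh
    rw [map_mul, hf, Matrix.aeval_self_charpoly, zero_mul] at h0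
    simpa [aeval_C, Matrix.algebraMap_eq_diagonal, Pi.algebraMap_def] using h0
  have hscal : ∀ {k : ℕ} {x : L}, (∀ a ∈ R, a ^ k = x) → x ^ q = x → ∃ c : F, ∀ a ∈ R, a ^ k = i c :=
    fun {k x} hall hx => by
      obtain ⟨c, hc⟩ := UThree.mem_range_algebraMap (F := F) (K := L) (x := x) hx
      exact ⟨c, fun a ha => by rw [hall a ha]; exact hc.symm⟩
  have hdpos : 0 < Nat.gcd 3 (q - 1) := Nat.gcd_pos_of_pos_left _ (by norm_num)
  have hdq : Nat.gcd 3 (q - 1) ≤ q - 1 := Nat.le_of_dvd (by omega) (Nat.gcd_dvd_right _ _)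
  by_cases hnd : R.Nodup
  · have fin : ∀ {k : ℕ} {x : L}, 0 < k → (∀ a ∈ R, a ^ k = x) → x ^ q = x →
        ∃ c : F, M ^ k = Matrix.scalar (Fin 3) c := by
      intro k x hk hall hx
      obtain ⟨c, hc⟩ := hscal hall hx
      refine ⟨c, sub_eq_zero.mp ?_⟩
      simpa using hcrit k c hk 1 hc (fun a => Multiset.nodup_iff_count_le_one.mp hnd a)
    by_cases hall : ∀ a ∈ R, a ^ q = a
    · exact ⟨q - 1, Or.inr (Or.inr (Or.inl rfl)), fin (x := 1) (by omega)
        (fun a ha => pow_sub_one_eq (by omega) (hclosed a ha).1 (hall a ha)) (one_pow _)⟩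
    push Not at hall
    obtain ⟨a, ha, hne⟩ := hall
    set b := a ^ q with hb
    have hbR : b ∈ R := (hclosed a ha).2
    obtain ⟨c, hc⟩ : ∃ c, R = a ::ₘ b ::ₘ {c} := by
      obtain ⟨T, hT⟩ := Multiset.exists_cons_of_mem ha
      have hbT : b ∈ T := by
        rw [hT, Multiset.mem_cons] at hbR
        exact hbR.resolve_left hne
      obtain ⟨U, hU⟩ := Multiset.exists_cons_of_mem hbT
      rw [hT, hU, Multiset.card_cons, Multiset.card_cons] at hcard
      obtain ⟨c, rfl⟩ := Multiset.card_eq_one.1 (show Multiset.card U = 1 by omega)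
      exact ⟨c, by rw [hT, hU]⟩
    have hnd' := hnd
    rw [hc] at hnd'
    simp at hnd'
    have habc : a * b * c = 1 := by
      rw [hc] at hone
      simpa [mul_assoc] using hone
    have hmem : ∀ x, x ∈ R ↔ x = a ∨ x = b ∨ x = c := fun x => by rw [hc]; simp
    have h2q : 2 * q ≤ q ^ 2 := by rw [sq]; exact Nat.mul_le_mul_right q hq
    rcases (hmem _).mp (hclosed b hbR).2 with h | h | h
    · obtain ⟨h1, h2, h3⟩ := pair_case hq (hclosed a ha).1 hb.symm h habc
      refine ⟨(q ^ 2 - 1) / Nat.gcd 3 (q - 1), Or.inr (Or.inl rfl),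
        fin (x := a ^ ((q ^ 2 - 1) / Nat.gcd 3 (q - 1))) (Nat.div_pos (by omega) hdpos) (fun x hx => ?_) h3⟩
      rcases (hmem x).mp hx with rfl | rfl | rfl
      exacts [rfl, h1, h2]
    · exact absurd (hinj b a (h.trans hb)) hne
    · obtain ⟨h1, h2, h3⟩ := triple_case hq (hclosed a ha).1 hb.symm h habc
      refine ⟨(q ^ 2 + q + 1) / Nat.gcd 3 (q - 1), Or.inl rfl,
        fin (x := a ^ ((q ^ 2 + q + 1) / Nat.gcd 3 (q - 1))) (Nat.div_pos (by omega) hdpos) (fun x hx => ?_) h3⟩
      rcases (hmem x).mp hx with rfl | rfl | rfl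
      exacts [rfl, h1, h2]
  · set S := R.toFinset with hS
    have hS2 : S.card ≤ 2 := by
      have h1 : S.card ≤ Multiset.card R := Multiset.toFinset_card_le R
      have h2 : S.card ≠ Multiset.card R := fun h => hnd (Multiset.toFinset_card_eq_card_iff_nodup.mp h)
      omega
    have hpr : ∀ a ∈ S, ∀ b ∈ S, a ≠ b → a * a * b = 1 ∨ b * b * a = 1 := by
      intro a ha b hb hab
      have hsub : ({a, b} : Finset L) = S := Finset.eq_of_subset_of_card_le
        (by simp [Finset.insert_subset_iff, ha, hb]) (by rwa [Finset.card_pair hab])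
      have h1 := Multiset.toFinset_sum_count_eq R
      rw [← hS, ← hsub, Finset.sum_pair hab, hcard] at h1
      have h2 := Finset.prod_multiset_count R
      rw [← hS, ← hsub, Finset.prod_pair hab, hone] at h2
      have ha' : 1 ≤ R.count a := Multiset.one_le_count_iff_mem.mpr (Multiset.mem_toFinset.mp ha)
      have hb' : 1 ≤ R.count b := Multiset.one_le_count_iff_mem.mpr (Multiset.mem_toFinset.mp hb)
      rcases (show R.count a = 2 ∧ R.count b = 1 ∨ R.count a = 1 ∧ R.count b = 2 by omega) with ⟨e1, e2⟩ | ⟨e1, e2⟩ <;>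
        rw [e1, e2] at h2
      · exact Or.inl (by linear_combination -h2)
      · exact Or.inr (by linear_combination -h2)
    have hmemS : ∀ x, x ∈ S ↔ x ∈ R := fun x => Multiset.mem_toFinset
    -- every root lies in the field
    have hfix : ∀ a ∈ S, a ^ q = a := by
      intro a ha
      by_contra hne
      obtain ⟨ha0, hb⟩ := hclosed a ((hmemS a).1 ha)
      have hb' : a ^ q ∈ S := (hmemS _).2 hb
      have hsub : ({a, a ^ q} : Finset L) = S := Finset.eq_of_subset_of_card_le
        (by simp [Finset.insert_subset_iff, ha, hb']) (by rwa [Finset.card_pair (Ne.symm hne)])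
      have hback : (a ^ q) ^ q = a := by
        have h := (hmemS _).2 (hclosed _ hb).2
        rw [← hsub, Finset.mem_insert, Finset.mem_singleton] at h
        exact h.resolve_right fun h' => hne (hinj _ _ h')
      rcases hpr a ha _ hb' (Ne.symm hne) with h | h
      · have h' : a ^ q * a ^ q * (a ^ q) ^ q = 1 := by rw [← mul_pow, ← mul_pow, h, one_pow]
        rw [hback] at h'
        refine hne (mul_left_cancel₀ (mul_ne_zero ha0 (pow_ne_zero q ha0)) ?_)
        linear_combination h' - h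
      · have h' : (a ^ q) ^ q * (a ^ q) ^ q * a ^ q = 1 := by rw [← mul_pow, ← mul_pow, h, one_pow]
        rw [hback] at h'
        refine hne (mul_left_cancel₀ (mul_ne_zero ha0 (pow_ne_zero q ha0)) ?_)
        linear_combination h - h'
    obtain ⟨a, ha⟩ : ∃ a, a ∈ R := Multiset.card_pos_iff_exists_mem.mp (by omega)
    by_cases h4 : p = 2 ∧ R.count a = 3
    · obtain ⟨hp2, hca⟩ := h4
      refine ⟨4, Or.inr (Or.inr (Or.inr (Or.inr ⟨hp2, rfl⟩))), ?_⟩
      subst hp2
      have hR3 : ∀ x ∈ R, x = a := by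
        intro x hx
        have hle : Multiset.replicate 3 a ≤ R := Multiset.le_count_iff_replicate_le.1 hca.ge
        have := Multiset.eq_of_le_of_card_le hle (by rw [Multiset.card_replicate, hcard])
        rw [← this] at hx
        exact Multiset.eq_of_mem_replicate hx
      obtain ⟨c, hc⟩ := UThree.mem_range_algebraMap (F := F) (K := L) (x := a) (hfix a ((hmemS a).2 ha))
      have h0 := hcrit 1 c one_pos 4 (fun x hx => by rw [pow_one, hR3 x hx]; exact hc.symm)
        (fun x => (Multiset.count_le_card x R).trans (by rw [hcard]; norm_num))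
      rw [pow_one] at h0
      haveI : CharP (Matrix (Fin 3) (Fin 3) F) 2 := inferInstance
      rw [show (4 : ℕ) = 2 ^ 2 by norm_num, sub_pow_char_pow_of_commute (p := 2) (n := 2) ((Matrix.scalar_commute _ (Commute.all _) _).symm),
        sub_eq_zero] at h0
      exact ⟨c ^ 2 ^ 2, by rw [map_pow, ← h0]; norm_num⟩
    · set k := (q - 1) / Nat.gcd 3 (q - 1) with hk
      have hkpos : 0 < k := Nat.div_pos hdq hdpos
      have h3k : ∀ x ∈ S, x ^ (3 * k) = 1 := by
        intro x hx
        obtain ⟨t, ht⟩ := Nat.gcd_dvd_left 3 (q - 1)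
        have e : 3 * k = (q - 1) * t := by
          conv_lhs => rw [ht]
          rw [hk, mul_comm (Nat.gcd 3 (q - 1)) t, mul_assoc,
            Nat.mul_div_cancel' (Nat.gcd_dvd_right _ _), mul_comm]
        rw [e, pow_mul, pow_sub_one_eq (by omega) (hclosed x ((hmemS x).1 hx)).1 (hfix x hx), one_pow]
      have key : ∀ x y : L, x ∈ S → x * x * y = 1 → y ^ k = x ^ k := by
        intro x y hx hxy
        have h := congrArg (· ^ k) hxy
        simp only [mul_pow, one_pow] at h
        have hx0 := pow_ne_zero k (hclosed x ((hmemS x).1 hx)).1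
        refine mul_left_cancel₀ (mul_ne_zero hx0 hx0) ?_
        rw [h, ← pow_add, ← pow_add, show k + k + k = 3 * k by ring, h3k x hx]
      have hall : ∀ b ∈ R, b ^ k = a ^ k := by
        intro b hb
        rcases eq_or_ne b a with rfl | hba
        · rfl
        rcases hpr a ((hmemS a).2 ha) b ((hmemS b).2 hb) (Ne.symm hba) with h | h
        · exact key a b ((hmemS a).2 ha) h
        · exact (key b a ((hmemS b).2 hb) h).symm
      obtain ⟨c, hc⟩ := hscal hall (by rw [← pow_mul, mul_comm, pow_mul, hfix a ((hmemS a).2 ha)])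
      have hcount : ∀ x, R.count x ≤ p := by
        intro x
        rcases Nat.lt_or_ge p 3 with hlt | hge
        · have hp2 : p = 2 := by
            have := (Fact.out : p.Prime).two_le
            omega
          by_contra hlt'
          have h1 := Multiset.count_le_card x R
          have hx3 : R.count x = 3 := by omega
          have hle : Multiset.replicate 3 x ≤ R := Multiset.le_count_iff_replicate_le.1 hx3.ge
          have hRe := Multiset.eq_of_le_of_card_le hle (by rw [Multiset.card_replicate, hcard])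
          refine h4 ⟨hp2, ?_⟩
          rw [← hRe] at ha
          rw [Multiset.eq_of_mem_replicate ha, hx3]
        · exact (Multiset.count_le_card x R).trans (hcard ▸ hge)
      have h0 := hcrit k c hkpos p hc hcount
      haveI : CharP (Matrix (Fin 3) (Fin 3) F) p := inferInstance
      rw [sub_pow_char_of_commute p ((Matrix.scalar_commute _ (Commute.all _) _).symm)] at h0
      refine ⟨p * (q - 1) / Nat.gcd 3 (q - 1), Or.inr (Or.inr (Or.inr (Or.inl rfl))), c ^ p, ?_⟩
      rw [Nat.mul_div_assoc _ (Nat.gcd_dvd_right _ _), ← hk, mul_comm, pow_mul, sub_eq_zero.mp h0, map_pow]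

theorem exists_multiple (g : Matrix.SpecialLinearGroup (Fin 3) F) {N : ℕ}
    (h : ∀ (t : ℕ) (c : F), (g : Matrix (Fin 3) (Fin 3) F) ^ t = Matrix.scalar (Fin 3) c → N ∣ t) :
    ∃ y : Matrix.ProjectiveSpecialLinearGroup (Fin 3) F, N ∣ orderOf y := by
  refine ⟨cls g, ?_⟩
  obtain ⟨c, hc⟩ := (cls_pow_eq_one_iff g _).1 (pow_orderOf_eq_one (cls g))
  exact h _ c hc

omit [Fintype F] in
/-- A block diagonal element. -/
theorem block_multiple (A : Matrix (Fin 2) (Fin 2) F) (e : F) (hdet : A.det * e = 1) {N : ℕ}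
    (h : ∀ (t : ℕ) (c : F), A ^ t = Matrix.scalar (Fin 2) c → e ^ t = c → N ∣ t) :
    ∃ y : Matrix.ProjectiveSpecialLinearGroup (Fin 3) F, N ∣ orderOf y := by
  set φ := Matrix.reindexAlgEquiv F F (finSumFinEquiv : Fin 2 ⊕ Fin 1 ≃ Fin 3)
  have hd : (φ (Matrix.fromBlocks A 0 0 (Matrix.scalar (Fin 1) e))).det = 1 := by
    show (Matrix.reindex _ _ _).det = 1
    rw [Matrix.det_reindex_self, Matrix.det_fromBlocks_zero₁₂]
    simpa using hdet
  refine ⟨cls ⟨_, hd⟩, ?_⟩
  obtain ⟨c, hc⟩ := (cls_pow_eq_one_iff _ _).1 (pow_orderOf_eq_one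
    (cls (⟨_, hd⟩ : Matrix.SpecialLinearGroup (Fin 3) F)))
  generalize orderOf (cls (⟨_, hd⟩ : Matrix.SpecialLinearGroup (Fin 3) F)) = t at hc ⊢
  change φ _ ^ t = Matrix.scalar (Fin 3) c at hc
  rw [← map_pow, Matrix.fromBlocks_diagonal_pow,
    show Matrix.scalar (Fin 3) c = φ (Matrix.scalar _ c) from (AlgEquiv.commutes φ c).symm] at hc
  have h1 := φ.injective hc
  refine h t c (Matrix.ext fun i j => ?_) ?_
  · have := congrFun (congrFun h1 (Sum.inl i)) (Sum.inl j)
    simpa [Matrix.diagonal_apply] using this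
  · have := congrFun (congrFun h1 (Sum.inr 0)) (Sum.inr 0)
    rw [← map_pow] at this
    simpa using this

omit [Fintype F] in
theorem upper_pow (ω : F) (t : ℕ) :
    (!![ω, 1; 0, ω] : Matrix (Fin 2) (Fin 2) F) ^ t = !![ω ^ t, (t : F) * ω ^ (t - 1); 0, ω ^ t] := by
  induction t with
  | zero => simp [Matrix.one_fin_two]
  | succ t ih =>
    rw [pow_succ, ih, Matrix.mul_fin_two]
    rcases t with _ | t
    · simp
    · congr 1
      simp only [Nat.succ_sub_one, Nat.cast_succ, Matrix.vecCons, Nat.add_sub_cancel]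
      ext i j
      fin_cases i <;> fin_cases j <;> simp [pow_succ] <;> ring

end Cfsg.Lib.Spec.LThree
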