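import Mathlib
import Cfsg.Agent.Lib.Spec.UnitaryThreeLower

/-!
# Singer cycles of the three-dimensional unitary group
-/

set_option autoImplicit false
set_option linter.style.longLine false
set_option linter.style.haveILetI false

namespace Cfsg.Lib.Spec.UThree

open Matrix Cfsg.Lib.Linear.Herm

variable {F : Type*} [Field F] [Fintype F] {q : ℕ}

theorem exists_orthonormal_basis_herm (hF : Fintype.card F = q ^ 2) {V : Type*} [AddCommGroup V]
    [Module F V] [FiniteDimensional F V] {n : ℕ} (hn : Module.finrank F V = n)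
    (B : V →ₛₗ[frob hF] V →ₗ[F] F) (hS : B.IsSymm) (hB : B.Nondegenerate) :
    ∃ b : Module.Basis (Fin n) F V, ∀ i j, B (b i) (b j) = if i = j then 1 else 0 := by
  classical
  have key : ∀ k ≤ n, ∃ v : Fin k → V, ∀ i j, B (v i) (v j) = if i = j then 1 else 0 := by
    intro k
    induction k with
    | zero => exact fun _ => ⟨Fin.elim0, fun i => i.elim0⟩
    | succ k ih =>
      intro hk
      obtain ⟨v, hv⟩ := ih (by omega)
      obtain ⟨w, hw, hww⟩ : ∃ w, (∀ i, B (v i) w = 0) ∧ B w w ≠ 0 := by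
        by_contra hcon
        push Not at hcon
        let W : Submodule F V := ⨅ i, LinearMap.ker (B (v i))
        have hW : ∀ w, w ∈ W ↔ ∀ i, B (v i) w = 0 := fun w => by simp [W]
        have hzero : B.domRestrict₁₂ W W = 0 := by
          refine Cfsg.Lib.Linear.Herm.eq_zero_of_self (frob_ne_id hF) ⟨fun x y => hS.eq x y⟩ fun w => ?_
          exact hcon w ((hW w).mp w.2)
        have hproj : ∀ x : V, x - ∑ i, B (v i) x • v i ∈ W := fun x => (hW _).mpr fun j => by
          simp [map_sum, hv]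
        have hsymm : ∀ x y, B x y = 0 → B y x = 0 := fun x y h => hS.isRefl x y h
        have hWbot : W = ⊥ := by
          rw [Submodule.eq_bot_iff]
          intro w hw
          refine hB.1 w fun x => ?_
          have h1 : B w (x - ∑ i, B (v i) x • v i) = 0 := by
            have := LinearMap.congr_fun (LinearMap.congr_fun hzero ⟨w, hw⟩) ⟨_, hproj x⟩
            exact this
          have h2 : ∀ i, B w (v i) = 0 := fun i => hsymm _ _ ((hW w).mp hw i)
          simpa [map_sub, map_sum, h2] using h1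
        have htop : Submodule.span F (Set.range v) = ⊤ := by
          rw [Submodule.eq_top_iff']
          intro x
          have h1 := hproj x
          rw [hWbot, Submodule.mem_bot, sub_eq_zero] at h1
          rw [h1]
          exact Submodule.sum_mem _ fun i _ =>
            Submodule.smul_mem _ _ (Submodule.subset_span ⟨i, rfl⟩)
        have h3 := finrank_range_le_card (R := F) v
        rw [Set.finrank, htop, finrank_top, hn, Fintype.card_fin] at h3
        omega
      have hfix : (B w w) ^ q = B w w := by rw [← frob_apply hF]; exact hS.eq w w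
      obtain ⟨x, hx⟩ := exists_norm_eq hF (inv_ne_zero hww) (by rw [inv_pow, hfix])
      refine ⟨Fin.snoc v ((x : F) • w), fun i j => ?_⟩
      have hw' : ∀ i, B w (v i) = 0 := fun i => hS.isRefl _ _ (hw i)
      have hxw : B ((x : F) • w) ((x : F) • w) = 1 := by
        simp only [LinearMap.map_smulₛₗ, LinearMap.smul_apply, map_smul, smul_eq_mul, RingHom.id_apply]
        rw [frob_apply, ← mul_assoc, ← pow_succ', hx, inv_mul_cancel₀ hww]
      induction i using Fin.lastCases with
      | last =>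
        induction j using Fin.lastCases with
        | last => rw [Fin.snoc_last, hxw, if_pos rfl]
        | cast j =>
          rw [Fin.snoc_last, Fin.snoc_castSucc, if_neg (Fin.castSucc_lt_last j).ne']
          simp [hw']
      | cast i =>
        induction j using Fin.lastCases with
        | last =>
          rw [Fin.snoc_last, Fin.snoc_castSucc, if_neg (Fin.castSucc_lt_last i).ne]
          simp [hw]
        | cast j => simp [hv, Fin.snoc_castSucc]
  obtain ⟨v, hv⟩ := key n le_rfl
  have hli : LinearIndependent F v := Fintype.linearIndependent_iff.mpr fun c hc i => by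
    have h := congrArg (fun x => B (v i) x) hc
    simpa [map_sum, hv] using h
  refine ⟨basisOfLinearIndependentOfCardEqFinrank' v hli (by simp [hn]), fun i j => ?_⟩
  simp [hv]

theorem exists_singer (p : ℕ) [Fact p.Prime] [CharP F p] (hF : Fintype.card F = q ^ 2) :
    ∃ g : Cfsg.SU 3 F q, ScalarOnly (smat g) ((q ^ 2 - q + 1) / Nat.gcd 3 (q + 1)) := by
  classical
  obtain ⟨⟨e, he0, he⟩, hq⟩ := char_facts p hF
  let K := FiniteField.Extension F p 3
  letI : Fintype K := Fintype.ofFinite K
  haveI : CharP K p := charP_of_injective_algebraMap (algebraMap F K).injective p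
  have hcardK : Nat.card K = q ^ 6 := by
    rw [FiniteField.natCard_extension, Nat.card_eq_fintype_card, hF]; ring
  have hfr : Module.finrank F K = 3 := by
    have h := Module.natCard_eq_pow_finrank (K := F) (V := K)
    rw [hcardK, Nat.card_eq_fintype_card, hF, ← pow_mul] at h
    have := Nat.pow_right_injective hq h
    omega
  have h6 : ∀ x : K, x ^ q ^ 6 = x := fun x => by
    rw [← hcardK, Nat.card_eq_fintype_card]; exact FiniteField.pow_card x
  let τ : K →+* K := iterateFrobenius K p (3 * e)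
  have hτ : ∀ x, τ x = x ^ q ^ 3 := fun x => by
    show iterateFrobenius K p (3 * e) x = _
    rw [iterateFrobenius_def, he, ← pow_mul, mul_comm]
  have hττ : ∀ x, τ (τ x) = x := fun x => by rw [hτ, hτ, ← pow_mul, ← pow_add, h6]
  let φ : K →+* K := iterateFrobenius K p e
  have hφ : ∀ x, φ x = x ^ q := fun x => by
    show iterateFrobenius K p e x = _
    rw [iterateFrobenius_def, he]
  have hsq : ∀ c : F, (algebraMap F K c) ^ q ^ 2 = algebraMap F K c := fun c => by
    rw [← map_pow, ← hF, FiniteField.pow_card]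
  have hτσ : ∀ c : F, τ (algebraMap F K c) = algebraMap F K (frob hF c) := fun c => by
    rw [hτ, frob_apply, map_pow, show q ^ 3 = q ^ 2 * q by ring, pow_mul, hsq]
  have htrσ : ∀ y : K, frob hF (Algebra.trace F K y) = Algebra.trace F K (τ y) := fun y => by
    apply (algebraMap F K).injective
    rw [frob_apply, map_pow, ← hφ, FiniteField.algebraMap_trace_eq_sum_pow,
      FiniteField.algebraMap_trace_eq_sum_pow, hfr, map_sum, Nat.card_eq_fintype_card, hF,
      Finset.sum_range_succ, Finset.sum_range_succ, Finset.sum_range_succ, Finset.sum_range_succ,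
      Finset.sum_range_succ, Finset.sum_range_succ, hφ, hφ, hφ, hτ]
    have e7 : y ^ q ^ 7 = y ^ q := by rw [show q ^ 7 = q ^ 6 * q by ring, pow_mul, h6]
    simp only [Finset.range_zero, Finset.sum_empty, zero_add, ← pow_mul]
    rw [show q ^ (2 * 0) * q = q by ring, show q ^ (2 * 1) * q = q ^ 3 by ring,
      show q ^ (2 * 2) * q = q ^ 5 by ring, show q ^ 3 * q ^ (2 * 0) = q ^ 3 by ring,
      show q ^ 3 * q ^ (2 * 1) = q ^ 5 by ring, show q ^ 3 * q ^ (2 * 2) = q ^ 7 by ring, e7]
    ring
  let B : K →ₛₗ[frob hF] K →ₗ[F] F :=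
    LinearMap.mk₂'ₛₗ (frob hF) (RingHom.id F) (fun a b => Algebra.trace F K (τ a * b))
      (fun a a' b => by rw [map_add, add_mul, map_add])
      (fun c a b => by rw [Algebra.smul_def, RingHom.map_mul τ, hτσ, mul_assoc, ← Algebra.smul_def, map_smul])
      (fun a b b' => by rw [mul_add, map_add])
      (fun c a b => by rw [RingHom.id_apply, mul_smul_comm, map_smul])
  have hBapp : ∀ a b, B a b = Algebra.trace F K (τ a * b) := fun a b => rfl
  have hS : B.IsSymm := ⟨fun x y => by
    rw [hBapp, hBapp, htrσ, RingHom.map_mul τ, hττ, mul_comm]⟩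
  have hleft : ∀ a, (∀ b, B a b = 0) → a = 0 := fun a h => by
    have h1 := (traceForm_nondegenerate F K).1 (τ a) fun b => by rw [Algebra.traceForm_apply]; exact h b
    exact (map_eq_zero τ).mp h1
  obtain ⟨b, hb⟩ := exists_orthonormal_basis_herm hF hfr B hS
    ⟨hleft, fun y h => hleft y fun a => hS.isRefl _ _ (h a)⟩
  have hherm : ∀ x y, Cfsg.hermForm 3 F q (b.repr x) (b.repr y) = B y x := fun x y => by
    conv_rhs => rw [← b.sum_repr x, ← b.sum_repr y]
    simp only [map_sum, LinearMap.sum_apply, LinearMap.map_smulₛₗ, LinearMap.smul_apply, map_smul,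
      smul_eq_mul, hb, RingHom.id_apply]
    simp [Cfsg.hermForm, frob_apply, mul_comm]
  obtain ⟨u, hu⟩ := IsCyclic.exists_ofOrder_eq_natCard (α := Kˣ)
  have hu' : orderOf (u : K) = q ^ 6 - 1 := by rw [orderOf_units, hu, Nat.card_units, hcardK]
  set N := q ^ 2 - q + 1 with hN
  have hqq : q ≤ q ^ 2 := Nat.le_self_pow two_ne_zero q
  have hNq : N + q = q ^ 2 + 1 := by omega
  have hN3 : N * (q + 1) = q ^ 3 + 1 := by
    have h1 : (N + q) * (q + 1) = (q ^ 2 + 1) * (q + 1) := by rw [hNq]
    have h2 : (q ^ 2 + 1) * (q + 1) = q ^ 3 + 1 + q * (q + 1) := by ring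
    rw [h2, add_mul] at h1
    omega
  have hq3 : 1 ≤ q ^ 3 := Nat.one_le_pow _ _ (by omega)
  have hfac : q ^ 6 - 1 = ((q + 1) * (q ^ 3 - 1)) * N := by
    have h1 : ((q + 1) * (q ^ 3 - 1)) * N = (q ^ 3 - 1) * (q ^ 3 + 1) := by rw [← hN3]; ring
    obtain ⟨r, hr⟩ : ∃ r, q ^ 3 = r + 1 := ⟨q ^ 3 - 1, by omega⟩
    rw [h1, show q ^ 6 = (q ^ 3) ^ 2 by ring, hr, Nat.add_sub_cancel]
    have : (r + 1) ^ 2 = r * (r + 1 + 1) + 1 := by ring
    omega
  set z : K := (u : K) ^ ((q + 1) * (q ^ 3 - 1)) with hz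
  have hzN : z ^ N = 1 := by rw [hz, ← pow_mul, ← hfac, ← hu', pow_orderOf_eq_one]
  have hzdvd : ∀ k, z ^ k = 1 → N ∣ k := fun k hk => by
    have h := orderOf_dvd_of_pow_eq_one (x := (u : K)) (by rw [pow_mul, ← hz, hk] :
      (u : K) ^ (((q + 1) * (q ^ 3 - 1)) * k) = 1)
    rw [hu', hfac] at h
    refine Nat.dvd_of_mul_dvd_mul_left (Nat.pos_of_ne_zero fun h0 => ?_) h
    rw [h0, zero_mul] at hfac
    have : q ^ 1 < q ^ 6 := Nat.pow_lt_pow_right hq (by norm_num)
    rw [pow_one] at this
    omega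
  set M := Algebra.leftMulMatrix b z with hM
  have hdet : M.det = 1 := by
    rw [hM, ← Algebra.norm_eq_matrix_det]
    apply (algebraMap F K).injective
    rw [FiniteField.algebraMap_norm_eq_pow_sum, hfr, Nat.card_eq_fintype_card, hF, map_one,
      Finset.sum_range_succ, Finset.sum_range_succ, Finset.sum_range_succ, Finset.sum_range_zero,
      show 0 + (q ^ 2) ^ 0 + (q ^ 2) ^ 1 + (q ^ 2) ^ 2 = N * (q ^ 2 + q + 1) by
        have h : (N + q) * (q ^ 2 + q + 1) = (q ^ 2 + 1) * (q ^ 2 + q + 1) := by rw [hNq]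
        ring_nf at h ⊢
        omega, pow_mul, hzN, one_pow]
  have hform : ∀ x y, B (z * x) (z * y) = B x y := fun x y => by
    have hz1 : τ z * z = 1 := by rw [hτ, ← pow_succ, ← hN3, pow_mul, hzN, one_pow]
    rw [hBapp, hBapp, RingHom.map_mul τ,
      show τ z * τ x * (z * y) = τ x * y by linear_combination τ x * y * hz1]
  refine ⟨⟨⟨M, hdet⟩, ?_⟩, ?_⟩
  · intro v w
    obtain ⟨x, rfl⟩ : ∃ x, v = b.repr x := ⟨b.equivFun.symm v, (b.equivFun.apply_symm_apply v).symm⟩
    obtain ⟨y, rfl⟩ : ∃ y, w = b.repr y := ⟨b.equivFun.symm w, (b.equivFun.apply_symm_apply w).symm⟩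
    show Cfsg.hermForm 3 F q (M *ᵥ b.repr x) (M *ᵥ b.repr y) = _
    rw [hM, Algebra.leftMulMatrix_mulVec_repr, Algebra.leftMulMatrix_mulVec_repr, hherm, hherm, hform]
  · intro k ⟨c, hc⟩
    change M ^ k = _ at hc
    rw [hM, ← map_pow, ← show algebraMap F (Matrix (Fin 3) (Fin 3) F) c = Matrix.scalar (Fin 3) c from rfl] at hc
    have hzk : z ^ k = algebraMap F K c :=
      Algebra.leftMulMatrix_injective b (hc.trans (AlgHom.commutes _ c).symm)
    have hz0 : z ≠ 0 := pow_ne_zero _ u.ne_zero
    have h1 : z ^ (k * (q ^ 2 - 1)) = 1 := by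
      rw [pow_mul, hzk]
      have hc0 : algebraMap F K c ≠ 0 := hzk ▸ pow_ne_zero k hz0
      apply mul_right_cancel₀ hc0
      rw [← pow_succ, Nat.sub_add_cancel (Nat.one_le_pow _ _ (by omega)), hsq, one_mul]
    have h2 := hzdvd _ h1
    have hcop : Nat.Coprime N (q - 1) := by
      have e1 : N = (q - 1) * q + 1 := by
        obtain ⟨r, rfl⟩ : ∃ r, q = r + 1 := ⟨q - 1, by omega⟩
        rw [Nat.add_sub_cancel]
        have : (r + 1) ^ 2 = r * (r + 1) + (r + 1) := by ring
        omega
      rw [e1]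
      exact Nat.coprime_mul_left_add_left _ _ _ |>.mpr (Nat.coprime_one_left _)
    have hsq2 : q ^ 2 - 1 = (q + 1) * (q - 1) := by
      obtain ⟨r, rfl⟩ : ∃ r, q = r + 1 := ⟨q - 1, by omega⟩
      rw [Nat.add_sub_cancel]
      have : (r + 1) ^ 2 = (r + 1 + 1) * r + 1 := by ring
      omega
    rw [hsq2, ← mul_assoc] at h2
    have h3 : N ∣ (q + 1) * k := by rw [mul_comm]; exact hcop.dvd_of_dvd_mul_right h2
    have h4 : N + 3 * q = (q + 1) * (q + 1) := by
      have : (q + 1) * (q + 1) = q ^ 2 + 2 * q + 1 := by ring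
      omega
    have h5 : Nat.gcd 3 (q + 1) ∣ N := (Nat.dvd_add_left ((Nat.gcd_dvd_left 3 (q + 1)).mul_right q)).mp
      (h4 ▸ (Nat.gcd_dvd_right 3 (q + 1)).mul_right _)
    refine dvd_of_gcd ?_ h3 h5
    have h6 : N ∣ (q + 1) * ((q + 1) * k) := h3.mul_left _
    rw [← mul_assoc, ← h4, add_mul] at h6
    have h7 : N ∣ 3 * q * k := (Nat.dvd_add_right (dvd_mul_right N k)).mp h6
    have hcq : Nat.Coprime N q := by
      have e1 : N = q * (q - 1) + 1 := by
        obtain ⟨r, rfl⟩ : ∃ r, q = r + 1 := ⟨q - 1, by omega⟩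
        rw [Nat.add_sub_cancel]
        have : (r + 1) ^ 2 = (r + 1) * r + (r + 1) := by ring
        omega
      rw [e1]
      exact Nat.coprime_mul_left_add_left _ _ _ |>.mpr (Nat.coprime_one_left _)
    rw [mul_right_comm] at h7
    exact hcq.dvd_of_dvd_mul_right h7

end Cfsg.Lib.Spec.UThree
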