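import Mathlib.FieldTheory.IsAlgClosed.AlgebraicClosure
import Mathlib.FieldTheory.Finite.Basic
import Mathlib.LinearAlgebra.Matrix.Charpoly.Eigs
import Mathlib.RingTheory.Coprime.Lemmas

/-!
# Eigenvalues of elements of prime order modulo a power
-/

set_option autoImplicit false
set_option linter.unusedSectionVars false

namespace Cfsg.Lib.Spec.EigenOrder

open Polynomial
open scoped Matrix

universe u

variable {n : Type*} [Fintype n] [DecidableEq n] {F : Type u} [Field F]

local notation "L" => AlgebraicClosure F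

/-- The eigenvalues in an algebraic closure. -/
noncomputable def eig (M : Matrix n n F) : Multiset L := (M.charpoly.map (algebraMap F L)).roots

theorem card_eig (M : Matrix n n F) : (eig M).card = Fintype.card n := by
  rw [eig, ← (IsAlgClosed.splits _).natDegree_eq_card_roots, natDegree_map, Matrix.charpoly_natDegree_eq_dim]

theorem mem_eig {M : Matrix n n F} {r : L} :
    r ∈ eig M ↔ ∃ v : n → L, v ≠ 0 ∧ M.map (algebraMap F L) *ᵥ v = r • v := by
  rw [eig, mem_roots (M.charpoly_monic.map _).ne_zero, IsRoot, ← Matrix.charpoly_map, Matrix.eval_charpoly,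
    ← Matrix.exists_mulVec_eq_zero_iff]
  refine exists_congr fun v => and_congr_right fun _ => ?_
  rw [Matrix.sub_mulVec, sub_eq_zero, Matrix.scalar_apply, ← Matrix.smul_one_eq_diagonal, Matrix.smul_mulVec,
    Matrix.one_mulVec, eq_comm]

theorem eig_transpose (M : Matrix n n F) : eig Mᵀ = eig M := by rw [eig, eig, Matrix.charpoly_transpose]

theorem pow_mulVec {M : Matrix n n L} {r : L} {v : n → L} (h : M *ᵥ v = r • v) (k : ℕ) :
    M ^ k *ᵥ v = r ^ k • v := by
  induction k with
  | zero => simp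
  | succ k ih => rw [pow_succ, ← Matrix.mulVec_mulVec, h, Matrix.mulVec_smul, ih, smul_smul, pow_succ']

theorem eig_pow_eq_one {M : Matrix n n F} {N : ℕ} (hN : M ^ N = 1) {r : L} (hr : r ∈ eig M) : r ^ N = 1 := by
  obtain ⟨v, hv, h⟩ := mem_eig.1 hr
  have h1 := pow_mulVec h N
  have hmap : M.map (algebraMap F L) ^ N = 1 := by
    have := congrArg (fun A : Matrix n n F => (algebraMap F L).mapMatrix A) hN
    simpa [map_pow] using this
  rw [hmap, Matrix.one_mulVec] at h1
  have : (r ^ N - 1) • v = 0 := by rw [sub_smul, ← h1, one_smul, sub_self]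
  exact sub_eq_zero.1 ((smul_eq_zero.1 this).resolve_right hv)

/-- Form-preserving matrices have inverse-closed eigenvalues. -/
theorem inv_mem_eig {M J : Matrix n n F} (hJ : IsUnit J) (hM : Mᵀ * J * M = J) {r : L} (hr : r ∈ eig M) :
    r⁻¹ ∈ eig M ∧ r ≠ 0 := by
  obtain ⟨v, hv, h⟩ := mem_eig.1 hr
  let f := (algebraMap F L).mapMatrix (m := n)
  have hmap : (f M)ᵀ * f J * f M = f J := by
    have h1 := congrArg f hM
    rw [map_mul, map_mul] at h1
    exact h1
  have hJv : f J *ᵥ v ≠ 0 := fun h0 =>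
    hv (Matrix.mulVec_injective_iff_isUnit.2 (hJ.map f) (h0.trans (Matrix.mulVec_zero _).symm))
  have h1 : r • ((f M)ᵀ *ᵥ (f J *ᵥ v)) = f J *ᵥ v := by
    conv_rhs => rw [← hmap]
    rw [← Matrix.mulVec_mulVec, ← Matrix.mulVec_mulVec, show f M *ᵥ v = r • v from h, Matrix.mulVec_smul,
      Matrix.mulVec_smul]
  have hr0 : r ≠ 0 := fun h0 => hJv (by rw [← h1, h0, zero_smul])
  refine ⟨?_, hr0⟩
  rw [← eig_transpose, mem_eig]
  refine ⟨f J *ᵥ v, hJv, ?_⟩
  conv_rhs => rw [← h1]
  rw [smul_smul, inv_mul_cancel₀ hr0, one_smul]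
  rfl

theorem pow_card_mem_eig [Fintype F] {M : Matrix n n F} {r : L} (hr : r ∈ eig M) :
    r ^ Fintype.card F ∈ eig M := by
  have hne := (M.charpoly_monic.map (algebraMap F L)).ne_zero
  rw [eig, mem_roots hne, IsRoot, eval_map] at hr ⊢
  have h := Polynomial.aeval_algHom_apply (FiniteField.frobeniusAlgHom F L) r M.charpoly
  rw [aeval_def, aeval_def, hr, map_zero] at h
  exact h

/-- An eigenvalue of exact order divisible by `p`. -/
theorem exists_eig {M : Matrix n n F} {k p : ℕ} (hp : (p : F) ≠ 0) (h : (M ^ k) ^ p = 1) (h1 : M ^ k ≠ 1) :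
    ∃ r ∈ eig M, r ^ k ≠ 1 := by
  by_contra hall
  push Not at hall
  rcases Nat.eq_zero_or_pos k with rfl | hk
  · exact h1 (pow_zero M)
  have hdvd : M.charpoly ∣ (X ^ k - 1) ^ Fintype.card n := by
    rw [← Polynomial.map_dvd_map' (algebraMap F L), Polynomial.map_pow, Polynomial.map_sub, Polynomial.map_pow,
      map_X, Polynomial.map_one, (IsAlgClosed.splits _).eq_prod_roots_of_monic (M.charpoly_monic.map _),
      ← card_eig M, eig]
    refine dvd_trans (Multiset.prod_dvd_prod_of_dvd (fun z => X - C z) (fun _ => (X : L[X]) ^ k - 1)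
      fun z hz => ?_) ?_
    · rw [dvd_iff_isRoot, IsRoot, eval_sub, eval_pow, eval_X, eval_one, hall z hz, sub_self]
    · rw [Multiset.map_const', Multiset.prod_replicate]
  obtain ⟨T, hT⟩ := hdvd
  have hnil : (M ^ k - 1) ^ Fintype.card n = 0 := by
    have h2 := congrArg (aeval M) hT
    rwa [map_mul, Matrix.aeval_self_charpoly, zero_mul, map_pow, map_sub, map_pow, aeval_X, map_one] at h2
  let G : F[X] := ∑ i ∈ Finset.range p, X ^ i
  have hcop : IsCoprime ((X - C (1 : F)) ^ Fintype.card n) G := by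
    refine IsCoprime.pow_left ((irreducible_X_sub_C (1 : F)).coprime_iff_not_dvd.2 ?_)
    rw [dvd_iff_isRoot, IsRoot]
    simp [G, eval_finsetSum, hp]
  obtain ⟨a, b, hab⟩ := hcop
  have h3 := congrArg (aeval (M ^ k)) hab
  rw [map_add, map_mul, map_mul, map_pow, map_sub, aeval_X, aeval_C, map_one, hnil, mul_zero, zero_add, map_one] at h3
  have hG : aeval (M ^ k) G * (M ^ k - 1) = 0 := by
    simp only [G, map_sum, map_pow, aeval_X]
    rw [geom_sum_mul, h, sub_self]
  exact h1 (sub_eq_zero.1 ((one_mul (M ^ k - 1)).symm.trans ((congrArg (· * (M ^ k - 1)) h3.symm).trans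
    ((mul_assoc _ _ _).trans (by rw [hG, mul_zero])))))

/-- Simple eigenvalues with a common power. -/
theorem pow_eq_smul {M : Matrix n n F} {m : ℕ} {c : F} (hnd : (eig M).Nodup)
    (h : ∀ z ∈ eig M, z ^ m = algebraMap F L c) : M ^ m = c • 1 := by
  classical
  have hdvd : M.charpoly ∣ X ^ m - C c := by
    rw [← Polynomial.map_dvd_map' (algebraMap F L), Polynomial.map_sub, Polynomial.map_pow, map_X, map_C,
      (IsAlgClosed.splits _).eq_prod_roots_of_monic (M.charpoly_monic.map _),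
      show (M.charpoly.map (algebraMap F L)).roots = eig M from rfl]
    rw [show (Multiset.map (fun a => X - C a) (eig M)).prod = ∏ z ∈ (eig M).toFinset, (X - C z) by
      rw [Finset.prod, Multiset.toFinset_val, Multiset.dedup_eq_self.2 hnd]]
    refine Finset.prod_dvd_of_coprime (fun x _ y _ hxy => pairwise_coprime_X_sub_C Function.injective_id hxy)
      fun z hz => ?_
    rw [dvd_iff_isRoot, IsRoot, eval_sub, eval_pow, eval_X, eval_C, h z (Multiset.mem_toFinset.1 hz), sub_self]
  obtain ⟨T, hT⟩ := hdvd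
  have h2 := congrArg (aeval M) hT
  rw [map_mul, Matrix.aeval_self_charpoly, zero_mul, map_sub, map_pow, aeval_X, aeval_C, sub_eq_zero] at h2
  rw [h2, Algebra.algebraMap_eq_smul_one]

theorem zpow_eq_iff_dvd {p : ℕ} {u : Lˣ} (hu : p ∣ orderOf u) {a b : ℤ} (h : u ^ a = u ^ b) : (p : ℤ) ∣ a - b :=
  (Int.natCast_dvd_natCast.2 hu).trans (orderOf_dvd_sub_iff_zpow_eq_zpow.2 h)

/-- Eigenvalues filling a set of powers which are distinct modulo `p`. -/
theorem eig_eq_image [DecidableEq L] {M : Matrix n n F} {u : Lˣ} {p : ℕ} (hu : p ∣ orderOf u) (S : Finset ℤ)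
    (hS : ∀ a ∈ S, ∀ b ∈ S, (p : ℤ) ∣ a - b → a = b) (hmem : ∀ a ∈ S, ((u ^ a : Lˣ) : L) ∈ eig M) :
    S.card ≤ Fintype.card n ∧ (S.card = Fintype.card n →
      (eig M).Nodup ∧ ∀ z ∈ eig M, ∃ a ∈ S, z = ((u ^ a : Lˣ) : L)) := by
  classical
  have hinj : Set.InjOn (fun a : ℤ => ((u ^ a : Lˣ) : L)) S := fun a ha b hb h =>
    hS a ha b hb (zpow_eq_iff_dvd hu (Units.ext h))
  have hsub : S.image (fun a : ℤ => ((u ^ a : Lˣ) : L)) ⊆ (eig M).toFinset := fun z hz => by
    obtain ⟨a, ha, rfl⟩ := Finset.mem_image.1 hz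
    exact Multiset.mem_toFinset.2 (hmem a ha)
  have h1 := Finset.card_le_card hsub
  rw [Finset.card_image_of_injOn hinj] at h1
  have h2 := Multiset.toFinset_card_le (eig M)
  rw [card_eig] at h2
  refine ⟨h1.trans h2, fun heq => ⟨?_, fun z hz => ?_⟩⟩
  · rw [← Multiset.toFinset_card_eq_card_iff_nodup, card_eig]
    omega
  · have := Finset.eq_of_subset_of_card_le hsub (by rw [Finset.card_image_of_injOn hinj]; omega)
    rw [← Multiset.mem_toFinset, ← this] at hz
    obtain ⟨a, ha, e⟩ := Finset.mem_image.1 hz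
    exact ⟨a, ha, e.symm⟩

end Cfsg.Lib.Spec.EigenOrder
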