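import Mathlib

/-!
# Unboundedly many groups with a given spectrum or prime graph
-/

set_option autoImplicit false
set_option linter.style.haveILetI false

namespace Cfsg.Lib.Spec

open scoped commutatorElement

universe u v w

section Fibre

variable {G : Type u} [Group G]

/-- Tuples congruent modulo a normal subgroup. -/
def fibrePow (A : Subgroup G) [A.Normal] (k : ℕ) : Subgroup (Fin (k + 1) → G) where
  carrier := {f | ∀ i, (QuotientGroup.mk (f i) : G ⧸ A) = QuotientGroup.mk (f 0)}
  mul_mem' {a b} ha hb i := by simp [QuotientGroup.mk_mul, ha i, hb i]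
  one_mem' i := rfl
  inv_mem' {a} ha i := by simp [QuotientGroup.mk_inv, ha i]

theorem exists_orderOf_fibrePow [Finite G] (A : Subgroup G) [A.Normal] {p : ℕ} (hp : p.Prime)
    (hA : ∀ a ∈ A, a ^ p = 1) {k : ℕ} (f : fibrePow A k) : ∃ g : G, orderOf g = orderOf f := by
  classical
  set m := orderOf (QuotientGroup.mk ((f : Fin (k + 1) → G) 0) : G ⧸ A) with hm
  have hmem : ∀ i, (f : Fin (k + 1) → G) i ^ m ∈ A := fun i => by
    rw [← QuotientGroup.eq_one_iff, QuotientGroup.mk_pow, f.2 i, hm, pow_orderOf_eq_one]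
  have hdvd : ∀ i, m ∣ orderOf ((f : Fin (k + 1) → G) i) := fun i => by
    have h := orderOf_map_dvd (QuotientGroup.mk' A) ((f : Fin (k + 1) → G) i)
    rwa [QuotientGroup.mk'_apply, f.2 i] at h
  have hcoord : ∀ i, orderOf ((f : Fin (k + 1) → G) i) ∣ orderOf f := fun i =>
    orderOf_dvd_of_pow_eq_one (by
      exact congrFun (congrArg Subtype.val (pow_orderOf_eq_one f)) i)
  by_cases hall : ∀ i, (f : Fin (k + 1) → G) i ^ m = 1
  · refine ⟨(f : Fin (k + 1) → G) 0, Nat.dvd_antisymm (hcoord 0) (dvd_trans ?_ (hdvd 0))⟩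
    exact orderOf_dvd_of_pow_eq_one (Subtype.ext (funext fun i => by simpa using hall i))
  · obtain ⟨i, hi⟩ := not_forall.mp hall
    refine ⟨(f : Fin (k + 1) → G) i, Nat.dvd_antisymm (hcoord i) ?_⟩
    have hle : ∀ j, (f : Fin (k + 1) → G) j ^ (m * p) = 1 := fun j => by
      rw [pow_mul]; exact hA _ (hmem j)
    have hf : orderOf f ∣ m * p :=
      orderOf_dvd_of_pow_eq_one (Subtype.ext (funext fun j => by simpa using hle j))
    refine hf.trans ?_
    obtain ⟨c, hc⟩ := hdvd i
    have hcp : c ∣ p := Nat.dvd_of_mul_dvd_mul_left (show 0 < m from orderOf_pos _)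
      (hc ▸ orderOf_dvd_of_pow_eq_one (hle i))
    rcases (Nat.dvd_prime hp).mp hcp with rfl | rfl
    · exact absurd (by rw [← (hc.trans (mul_one m)), pow_orderOf_eq_one]) hi
    · rw [hc]

theorem range_orderOf_fibrePow [Finite G] (A : Subgroup G) [A.Normal] {p : ℕ} (hp : p.Prime)
    (hA : ∀ a ∈ A, a ^ p = 1) (k : ℕ) :
    Set.range (orderOf : fibrePow A k → ℕ) = Set.range (orderOf : G → ℕ) := by
  ext n
  constructor
  · rintro ⟨f, rfl⟩
    exact exists_orderOf_fibrePow A hp hA f
  · rintro ⟨g, rfl⟩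
    refine ⟨⟨fun _ => g, fun _ => rfl⟩, ?_⟩
    rw [← Subgroup.orderOf_coe, orderOf_eq_orderOf_iff]
    exact fun m => ⟨fun h => congrFun h 0, fun h => funext fun _ => h⟩

/-- A group with a nontrivial normal subgroup of prime exponent shares its spectrum with
arbitrarily large groups. -/
theorem exists_isospectral_large [Finite G] (A : Subgroup G) [A.Normal] (hA1 : A ≠ ⊥) {p : ℕ}
    (hp : p.Prime) (hA : ∀ a ∈ A, a ^ p = 1) (N : ℕ) :
    ∃ (H : Type) (_ : Group H) (_ : Fintype H), N < Fintype.card H ∧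
      Set.range (orderOf : H → ℕ) = Set.range (orderOf : G → ℕ) := by
  classical
  haveI : Small.{0} (fibrePow A N) := Countable.toSmall _
  let f : Shrink.{0} (fibrePow A N) ≃* fibrePow A N := Shrink.mulEquiv
  haveI : Finite (Shrink.{0} (fibrePow A N)) := Finite.of_equiv _ f.symm.toEquiv
  letI := Fintype.ofFinite (Shrink.{0} (fibrePow A N))
  refine ⟨Shrink.{0} (fibrePow A N), inferInstance, inferInstance, ?_, ?_⟩
  · rw [Fintype.card_eq_nat_card, Nat.card_congr f.toEquiv]
    obtain ⟨a, haA, ha1⟩ := A.bot_or_exists_ne_one.resolve_left hA1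
    have hinj : Function.Injective (fun b : Fin (N + 1) → Bool =>
        (⟨fun i => if b i then a else 1, fun i => by
          have : ∀ c : Bool, (QuotientGroup.mk (if c then a else 1) : G ⧸ A) = 1 := fun c => by
            cases c <;> simp [haA]
          exact (this (b i)).trans (this (b 0)).symm⟩ : fibrePow A N)) := by
      intro b b' h
      funext i
      have h1 := congrFun (Subtype.ext_iff.mp h) i
      by_contra hne
      cases hb : b i <;> cases hb' : b' i <;> simp_all
    have h := Nat.card_le_card_of_injective _ hinj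
    rw [Nat.card_fun, Nat.card_fin, Nat.card_eq_fintype_card (α := Bool), Fintype.card_bool] at h
    exact lt_of_lt_of_le (lt_trans (Nat.lt_succ_self N) Nat.lt_two_pow_self) h
  · rw [← range_orderOf_fibrePow A hp hA N]
    ext n
    constructor
    · rintro ⟨x, rfl⟩; exact ⟨f x, f.orderOf_eq x⟩
    · rintro ⟨x, rfl⟩; exact ⟨f.symm x, f.symm.orderOf_eq x⟩

/-- A nontrivial solvable normal subgroup contains a normal subgroup of prime exponent. -/
theorem exists_normal_prime_exponent [Finite G] (K : Subgroup G) [K.Normal] (hK : K ≠ ⊥)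
    (hs : Group.IsSolvable K) :
    ∃ (A : Subgroup G) (p : ℕ), A.Normal ∧ A ≠ ⊥ ∧ p.Prime ∧ ∀ a ∈ A, a ^ p = 1 := by
  classical
  have hex : ∃ n, derivedSeries K n = ⊥ := Group.IsSolvable.solvable
  set n := Nat.find hex with hn
  have hn0 : n ≠ 0 := by
    intro h0
    have h := Nat.find_spec hex
    rw [← hn, h0, derivedSeries_zero] at h
    haveI : Subsingleton K := Subgroup.subsingleton_iff.mp (subsingleton_of_bot_eq_top h.symm)
    exact hK (Subgroup.eq_bot_of_subsingleton K)
  obtain ⟨m, hm⟩ := Nat.exists_eq_succ_of_ne_zero hn0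
  set B := (derivedSeries K m).map K.subtype with hB
  have hBn : B.Normal := ConjAct.normal_of_characteristic_of_normal
  have hB1 : B ≠ ⊥ := by
    intro h
    rw [hB, Subgroup.map_eq_bot_iff_of_injective _ K.subtype_injective] at h
    exact Nat.find_min hex (show m < n by omega) h
  have hcomm : ∀ a ∈ B, ∀ b ∈ B, a * b = b * a := by
    rintro _ ⟨a, ha, rfl⟩ _ ⟨b, hb, rfl⟩
    have h : ⁅a, b⁆ ∈ derivedSeries K (m + 1) := by
      rw [derivedSeries_succ]; exact Subgroup.commutator_mem_commutator ha hb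
    rw [show m + 1 = n by omega, hn, Nat.find_spec hex, Subgroup.mem_bot,
      commutatorElement_eq_one_iff_mul_comm] at h
    rw [← map_mul, ← map_mul, h]
  have hc2 : Nat.card B ≠ 1 := fun h => hB1 (Subgroup.card_eq_one.mp h)
  obtain ⟨p, hp, hpd⟩ := Nat.exists_prime_and_dvd hc2
  haveI : Fact p.Prime := ⟨hp⟩
  obtain ⟨b, hb⟩ := exists_prime_orderOf_dvd_card' p hpd
  let A : Subgroup G :=
    { carrier := {a | a ∈ B ∧ a ^ p = 1}
      mul_mem' := fun {a c} ha hc => ⟨B.mul_mem ha.1 hc.1, by
        rw [(show Commute a c from hcomm a ha.1 c hc.1).mul_pow, ha.2, hc.2, one_mul]⟩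
      one_mem' := ⟨B.one_mem, one_pow p⟩
      inv_mem' := fun {a} ha => ⟨B.inv_mem ha.1, by rw [inv_pow, ha.2, inv_one]⟩ }
  refine ⟨A, p, ⟨fun a ha g => ⟨hBn.conj_mem a ha.1 g, by rw [conj_pow, ha.2]; group⟩⟩, ?_, hp,
    fun a ha => ha.2⟩
  intro h
  have hmem : (b : G) ∈ A := ⟨b.2, by rw [← SubgroupClass.coe_pow, ← hb, pow_orderOf_eq_one]; rfl⟩
  rw [h, Subgroup.mem_bot] at hmem
  have : b = 1 := Subtype.ext hmem
  rw [this, orderOf_one] at hb
  exact hp.one_lt.ne hb

end Fibre

section Semidirect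

variable {S : Type u} [Group S] {W : Type v} [CommGroup W]

/-- The diagonal action on tuples. -/
def diagAct (φ : S →* MulAut W) (k : ℕ) : S →* MulAut (Fin k → W) where
  toFun g := MulEquiv.piCongrRight fun _ => φ g
  map_one' := by ext w i; simp
  map_mul' a b := by ext w i; simp

theorem diagAct_apply (φ : S →* MulAut W) (k : ℕ) (g : S) (w : Fin k → W) (i : Fin k) :
    diagAct φ k g w i = φ g (w i) := rfl

/-- Semidirect products with modules whose fixed points add no edges share the prime graph. -/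
theorem exists_primeGraph_large [Finite S] [Finite W] [Nontrivial W] (φ : S →* MulAut W) {l : ℕ}
    (hl : l.Prime) (hW : ∀ w : W, w ^ l = 1) (hlS : l ∣ Nat.card S)
    (hfix : ∀ g : S, (orderOf g).Prime → orderOf g ≠ l → ∀ w : W, w ≠ 1 → φ g w = w →
      ∃ x : S, orderOf x = l * orderOf g)
    {L : Type w} [Group L]
    (hπ : ∀ p : ℕ, p.Prime → (p ∣ Nat.card L ↔ p ∣ Nat.card S))
    (hE : ∀ p q : ℕ, p.Prime → q.Prime → p ≠ q →
      ((∃ g : L, orderOf g = p * q) ↔ ∃ g : S, orderOf g = p * q)) (N : ℕ) :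
    ∃ (H : Type) (_ : Group H) (_ : Finite H), N < Nat.card H ∧
      ((∀ p : ℕ, p.Prime → (p ∣ Nat.card L ↔ p ∣ Nat.card H)) ∧
      (∀ p q : ℕ, p.Prime → q.Prime → p ≠ q →
        ((∃ g : L, orderOf g = p * q) ↔ (∃ g : H, orderOf g = p * q)))) := by
  classical
  let H0 := (Fin N → W) ⋊[diagAct φ N] S
  haveI : Finite H0 := Finite.of_equiv _ SemidirectProduct.equivProd.symm
  haveI : Small.{0} H0 := Countable.toSmall _
  let f : Shrink.{0} H0 ≃* H0 := Shrink.mulEquiv
  haveI : Finite (Shrink.{0} H0) := Finite.of_equiv _ f.symm.toEquiv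
  have hcard : Nat.card (Shrink.{0} H0) = Nat.card W ^ N * Nat.card S := by
    rw [Nat.card_congr f.toEquiv, SemidirectProduct.card, Nat.card_fun, Nat.card_fin]
  refine ⟨Shrink.{0} H0, inferInstance, inferInstance, ?_, fun p hp => ?_, fun r s hr hs hrs => ?_⟩
  · rw [hcard]
    exact (Nat.lt_pow_self Finite.one_lt_card).trans_le (Nat.le_mul_of_pos_right _ Nat.card_pos)
  · rw [hπ p hp, hcard]
    refine ⟨fun h => h.mul_left _, fun h => ?_⟩
    rcases hp.dvd_mul.mp h with h | h
    · haveI : Fact p.Prime := ⟨hp⟩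
      obtain ⟨w, hw⟩ := exists_prime_orderOf_dvd_card' p (hp.dvd_of_dvd_pow h)
      have h1 := orderOf_dvd_of_pow_eq_one (hW w)
      rw [hw, Nat.prime_dvd_prime_iff_eq hp hl] at h1
      exact h1 ▸ hlS
    · exact h
  · rw [hE r s hr hs hrs]
    constructor
    · rintro ⟨g, hg⟩
      exact ⟨f.symm (SemidirectProduct.inr g), by
        rw [MulEquiv.orderOf_eq, orderOf_injective _ SemidirectProduct.inr_injective, hg]⟩
    · rintro ⟨y', hy'⟩
      obtain ⟨y, hy⟩ : ∃ y : H0, orderOf y = r * s := ⟨f y', by rw [MulEquiv.orderOf_eq, hy']⟩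
      set d := orderOf y.right with hd
      have hd1 : d ∣ r * s := hy ▸ orderOf_map_dvd SemidirectProduct.rightHom y
      have hyd : (y ^ d).right = 1 :=
        (map_pow (SemidirectProduct.rightHom (φ := diagAct φ N)) y d).trans
          (pow_orderOf_eq_one y.right)
      have hydl : y ^ d = SemidirectProduct.inl (y ^ d).left :=
        SemidirectProduct.ext rfl hyd
      have hd2 : r * s ∣ d * l := by
        rw [← hy]
        refine orderOf_dvd_of_pow_eq_one ?_
        rw [pow_mul, hydl, ← map_pow,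
          show (y ^ d).left ^ l = 1 from funext fun i => hW _, map_one]
      have hd0 : 0 < d := orderOf_pos y.right
      obtain ⟨a, ha⟩ := hd1
      obtain ⟨b, hb⟩ := hd2
      have hab : a * b = l := Nat.eq_of_mul_eq_mul_left hd0 (by rw [← mul_assoc, ← ha, ← hb])
      rcases (Nat.dvd_prime hl).mp ⟨b, hab.symm⟩ with rfl | rfl
      · exact ⟨y.right, by rw [← hd, ha, mul_one]⟩
      have hls : a = r ∨ a = s := by
        rcases hl.dvd_mul.mp (show a ∣ r * s from ha ▸ Dvd.intro_left d rfl) with h | h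
        · exact Or.inl ((Nat.prime_dvd_prime_iff_eq hl hr).mp h)
        · exact Or.inr ((Nat.prime_dvd_prime_iff_eq hl hs).mp h)
      have hdp : d.Prime ∧ d ≠ a := by
        rcases hls with e | e <;> subst e
        · have h : d = s := Nat.eq_of_mul_eq_mul_left hr.pos (by rw [ha, mul_comm])
          exact ⟨h ▸ hs, h ▸ hrs.symm⟩
        · have h : d = r := Nat.eq_of_mul_eq_mul_right hs.pos ha.symm
          exact ⟨h ▸ hr, h ▸ hrs⟩
      set z := y ^ d with hzdef
      obtain ⟨i, hi⟩ : ∃ i, z.left i ≠ 1 := by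
        by_contra hall
        push Not at hall
        have h1 : y ^ d = 1 := SemidirectProduct.ext (funext hall) hyd
        have h2 : r * s ∣ d := hy ▸ orderOf_dvd_of_pow_eq_one h1
        have h3 := Nat.le_of_dvd hd0 h2
        rw [ha] at h3
        have := hl.two_le
        nlinarith
      have hc : diagAct φ N y.right z.left = z.left := by
        have hc : y * z = z * y := by rw [hzdef, ← pow_succ, ← pow_succ']
        have h := congrArg SemidirectProduct.left hc
        rw [SemidirectProduct.mul_left, SemidirectProduct.mul_left, hyd, map_one,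
          MulAut.one_apply, mul_comm z.left] at h
        exact mul_left_cancel h
      obtain ⟨x, hx⟩ := hfix y.right hdp.1 hdp.2 (z.left i) hi (congrFun hc i)
      exact ⟨x, by rw [hx, ← hd, ha, mul_comm]⟩

end Semidirect

end Cfsg.Lib.Spec
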