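import Mathlib

/-!
# Frobenius groups with cyclic complement and abelian kernel of given exponent
-/

set_option autoImplicit false
set_option linter.style.haveILetI false

namespace Cfsg.Lib.Spec

open Polynomial

/-- In a ring where `u` is invertible, a `u`-th root of unity annihilating the cyclotomic polynomial
has `x ^ i - 1` invertible. -/
theorem isUnit_pow_sub_one {R : Type*} [CommRing R] {u : ℕ} (hu : IsUnit (u : R)) {x : R}
    (hu0 : 0 < u) (hx : aeval x (cyclotomic u ℤ) = 0) (hxu : x ^ u = 1) {i : ℕ} (hi : ¬ u ∣ i) :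
    IsUnit (x ^ i - 1) := by
  set g := Nat.gcd i u with hg
  have hgu : g ∣ u := Nat.gcd_dvd_right _ _
  have hgp : g ∈ u.properDivisors := Nat.mem_properDivisors.mpr ⟨hgu,
    lt_of_le_of_ne (Nat.le_of_dvd hu0 hgu) fun h => hi (h ▸ Nat.gcd_dvd_left _ _)⟩
  have hg0 : 0 < g := Nat.gcd_pos_of_pos_right _ hu0
  obtain ⟨c, hc⟩ := hgu
  have hS : ∑ k ∈ Finset.range c, (x ^ g) ^ k = 0 := by
    have hd := X_pow_sub_one_mul_cyclotomic_dvd_X_pow_sub_one_of_dvd ℤ hgp
    have hfac : ((X : ℤ[X]) ^ u - 1) = (X ^ g - 1) * ∑ k ∈ Finset.range c, (X ^ g) ^ k := by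
      rw [mul_geom_sum, ← pow_mul, ← hc]
    rw [hfac] at hd
    obtain ⟨w, hw⟩ := hd
    have h2 : (∑ k ∈ Finset.range c, ((X : ℤ[X]) ^ g) ^ k) = cyclotomic u ℤ * w := by
      refine mul_left_cancel₀ ((monic_X_pow_sub_C (1 : ℤ) hg0.ne').ne_zero) ?_
      rw [map_one, hw, mul_assoc]
    have h3 := congrArg (aeval x) h2
    simp only [map_mul, hx, zero_mul, map_sum, map_pow, aeval_X] at h3
    exact h3
  have hgunit : IsUnit (x ^ g - 1) := by
    have h1 : (c : R) = -(x ^ g - 1) * ∑ k ∈ Finset.range c, ∑ l ∈ Finset.range k, (x ^ g) ^ l := by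
      rw [neg_mul, Finset.mul_sum]
      simp only [mul_geom_sum, Finset.sum_sub_distrib, hS, zero_sub, Finset.sum_const,
        Finset.card_range, nsmul_eq_mul, mul_one, neg_neg]
    have hcu : IsUnit (c : R) := isUnit_of_mul_isUnit_right (x := (g : R))
      (by rw [← Nat.cast_mul, ← hc]; exact hu)
    rw [h1] at hcu
    simpa using (isUnit_of_mul_isUnit_left hcu).neg
  obtain ⟨a, b, hab⟩ : ∃ a b : ℕ, i * a = g + u * b := by
    rcases Nat.eq_or_lt_of_le hu0 with hu1 | hu1
    · exact absurd (hu1 ▸ one_dvd i : u ∣ i) hi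
    · obtain ⟨a, -, ha⟩ := Nat.exists_mul_mod_eq_gcd (n := i) (k := u)
        ((Nat.mem_properDivisors.mp hgp).2)
      exact ⟨a, i * a / u, by rw [hg, ← ha, Nat.mod_add_div]⟩
  have : x ^ i - 1 ∣ x ^ g - 1 := by
    have h1 : x ^ i - 1 ∣ (x ^ i) ^ a - 1 := sub_one_dvd_pow_sub_one _ a
    rwa [← pow_mul, hab, pow_add, pow_mul, hxu, one_pow, mul_one] at h1
  exact isUnit_of_dvd_unit this hgunit

/-- Multiplication by a unit. -/
def unitAct (R : Type*) [CommRing R] : Rˣ →* MulAut (Multiplicative R) where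
  toFun u := AddEquiv.toMultiplicative
    { toFun := fun v => (u : R) * v
      invFun := fun v => (↑u⁻¹ : R) * v
      left_inv := fun v => by simp [← mul_assoc]
      right_inv := fun v => by simp [← mul_assoc]
      map_add' := mul_add _ }
  map_one' := by
    refine MulEquiv.ext fun w => ?_
    show Multiplicative.ofAdd (((1 : Rˣ) : R) * w.toAdd) = w
    simp
  map_mul' a b := by
    refine MulEquiv.ext fun w => ?_
    show Multiplicative.ofAdd (((a * b : Rˣ) : R) * w.toAdd) =
      Multiplicative.ofAdd ((a : R) * ((b : R) * w.toAdd))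
    rw [Units.val_mul, mul_assoc]

theorem unitAct_apply {R : Type*} [CommRing R] (u : Rˣ) (w : Multiplicative R) :
    (unitAct R u w).toAdd = (u : R) * w.toAdd := rfl

/-- A solvable group whose element orders are the divisors of `n` and of `u`. -/
theorem exists_cyclotomic_frobenius (n u : ℕ) (hn : 2 ≤ n) (hu : 0 < u) (hnu : n.Coprime u) :
    ∃ (H : Type) (_ : Group H) (_ : Finite H), Group.IsSolvable H ∧
      ∀ m, (∃ h : H, orderOf h = m) ↔ m ∣ n ∨ m ∣ u := by
  classical
  haveI : Fact (1 < n) := ⟨hn⟩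
  haveI : NeZero n := ⟨by omega⟩
  set f : (ZMod n)[X] := cyclotomic u (ZMod n) with hf
  have hmon : f.Monic := cyclotomic.monic u _
  let R := AdjoinRoot f
  haveI : Module.Finite (ZMod n) R := (AdjoinRoot.powerBasis' hmon).finite
  haveI : Finite R := Module.finite_of_finite (ZMod n)
  set x : R := AdjoinRoot.root f with hx
  have hx0 : aeval x (cyclotomic u ℤ) = 0 := by
    have h2 := aeval_map_algebraMap (ZMod n) x (cyclotomic u ℤ)
    rw [algebraMap_int_eq, map_cyclotomic] at h2
    rw [← h2, hx, AdjoinRoot.aeval_eq]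
    exact AdjoinRoot.mk_self
  have hxu : x ^ u = 1 := by
    obtain ⟨w, hw⟩ := cyclotomic.dvd_X_pow_sub_one u ℤ
    have h3 := congrArg (aeval x) hw
    simp only [map_mul, hx0, zero_mul, map_sub, map_pow, aeval_X, map_one, sub_eq_zero] at h3
    exact h3
  have huR : IsUnit (u : R) := by
    have h1 : IsUnit (u : ZMod n) := (ZMod.isUnit_iff_coprime u n).mpr hnu.symm
    simpa using h1.map (algebraMap (ZMod n) R)
  have hdeg : 0 < f.natDegree := by
    rw [hf, natDegree_cyclotomic]; exact Nat.totient_pos.mpr hu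
  have hinj : ∀ a : ZMod n, algebraMap (ZMod n) R a = 0 → a = 0 := by
    intro a ha
    have h1 : f ∣ C a := AdjoinRoot.mk_eq_zero.mp ha
    have h2 := (modByMonic_eq_zero_iff_dvd hmon).mpr h1
    rw [(modByMonic_eq_self_iff hmon).mpr (degree_C_le.trans_lt (by
      rw [degree_eq_natDegree hmon.ne_zero]; exact_mod_cast hdeg))] at h2
    exact C_eq_zero.mp h2
  haveI : Nontrivial R := ⟨⟨1, 0, fun h => one_ne_zero (hinj 1 (by rw [map_one]; exact h))⟩⟩
  set U : Rˣ := Units.ofPowEqOne x u hxu hu.ne' with hU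
  have hUi : ∀ i : ℕ, ¬ u ∣ i → IsUnit (((U ^ i : Rˣ) : R) - 1) := fun i hi => by
    rw [Units.val_pow_eq_pow_val]
    exact isUnit_pow_sub_one huR hu hx0 hxu hi
  have hUu : U ^ u = 1 := Units.ext (by rw [Units.val_pow_eq_pow_val]; exact hxu)
  have hUo : orderOf U = u := by
    refine Nat.dvd_antisymm (orderOf_dvd_of_pow_eq_one hUu) ?_
    by_contra h
    have := hUi _ h
    rw [pow_orderOf_eq_one, Units.val_one, sub_self] at this
    exact not_isUnit_zero this
  let C' := Subgroup.zpowers U
  let φ : C' →* MulAut (Multiplicative R) := (unitAct R).comp C'.subtype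
  refine ⟨Multiplicative R ⋊[φ] C', inferInstance, Finite.of_equiv _ SemidirectProduct.equivProd.symm,
    ?_, ?_⟩
  · haveI : Group.IsSolvable (Multiplicative R) := inferInstance
    haveI : Group.IsSolvable C' := inferInstance
    exact Group.isSolvable_of_ker_le_range (SemidirectProduct.inl : _ →* Multiplicative R ⋊[φ] C')
      SemidirectProduct.rightHom (SemidirectProduct.range_inl_eq_ker_rightHom).ge
  have hcast : ((n : ℕ) : R) = 0 := by
    rw [← map_natCast (algebraMap (ZMod n) R) n, ZMod.natCast_self, map_zero]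
  have hkill : ∀ h : Multiplicative R ⋊[φ] C', h.right = 1 → orderOf h ∣ n := fun h hr => by
    have he : h = SemidirectProduct.inl h.left := SemidirectProduct.ext rfl hr
    rw [he, orderOf_injective _ SemidirectProduct.inl_injective]
    refine orderOf_dvd_of_pow_eq_one (Multiplicative.toAdd.injective ?_)
    rw [toAdd_pow, toAdd_one, nsmul_eq_mul, hcast, zero_mul]
  intro m
  constructor
  · rintro ⟨h, rfl⟩
    by_cases hr : h.right = 1
    · exact Or.inl (hkill h hr)
    · right
      set o := orderOf h.right with ho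
      have hpow : ∀ k, (h ^ k).left.toAdd =
          (∑ i ∈ Finset.range k, (((h.right : Rˣ) : R)) ^ i) * h.left.toAdd := by
        intro k
        induction k with
        | zero => simp
        | succ k ih =>
          rw [pow_succ', SemidirectProduct.mul_left, toAdd_mul]
          show _ + (unitAct R (h.right : Rˣ) (h ^ k).left).toAdd = _
          rw [unitAct_apply, ih, geom_sum_succ]
          ring
      have hS : ∑ i ∈ Finset.range o, (((h.right : Rˣ) : R)) ^ i = 0 := by
        obtain ⟨i, hi⟩ := (mem_powers_iff_mem_zpowers.mpr h.right.2 : (h.right : Rˣ) ∈ Submonoid.powers U)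
        have hu' : ¬ u ∣ i := fun hd => by
          apply hr
          apply Subtype.ext
          rw [← hi]
          obtain ⟨c, rfl⟩ := hd
          show U ^ (u * c) = 1
          rw [pow_mul, hUu, one_pow]
        have h1 := hUi i hu'
        rw [show U ^ i = (h.right : Rˣ) from hi] at h1
        refine h1.mul_right_eq_zero.mp ?_
        rw [mul_geom_sum, ← Units.val_pow_eq_pow_val, ← Subgroup.coe_pow, ho, pow_orderOf_eq_one]
        simp
      have hho : h ^ o = 1 := by
        refine SemidirectProduct.ext (Multiplicative.toAdd.injective ?_) ?_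
        · rw [hpow, hS, zero_mul]; rfl
        · rw [← SemidirectProduct.rightHom_eq_right, map_pow]
          exact pow_orderOf_eq_one h.right
      have hou : o ∣ u := by
        rw [ho, ← Subgroup.orderOf_coe]
        exact hUo ▸ orderOf_dvd_of_mem_zpowers h.right.2
      exact (orderOf_dvd_of_pow_eq_one hho).trans hou
  · rintro (hm | hm)
    · obtain ⟨k, hk⟩ := hm
      have hk0 : k ≠ 0 := by rintro rfl; omega
      have hone : orderOf (SemidirectProduct.inl (Multiplicative.ofAdd (1 : R)) : Multiplicative R ⋊[φ] C') = n := by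
        rw [orderOf_injective _ SemidirectProduct.inl_injective, orderOf_ofAdd_eq_addOrderOf]
        refine Nat.dvd_antisymm (addOrderOf_dvd_of_nsmul_eq_zero (by rw [nsmul_eq_mul, hcast, zero_mul])) ?_
        refine (ZMod.natCast_eq_zero_iff _ _).mp (hinj _ ?_)
        rw [map_natCast, ← nsmul_one (A := R)]
        exact addOrderOf_nsmul_eq_zero _
      exact ⟨_, by rw [orderOf_pow_of_dvd hk0 (by rw [hone]; exact Dvd.intro_left _ hk.symm), hone, hk, Nat.mul_div_cancel _ (Nat.pos_of_ne_zero hk0)]⟩
    · obtain ⟨k, hk⟩ := hm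
      have hk0 : k ≠ 0 := by rintro rfl; omega
      have hone : orderOf (SemidirectProduct.inr ⟨U, Subgroup.mem_zpowers U⟩ : Multiplicative R ⋊[φ] C') = u := by
        rw [orderOf_injective _ SemidirectProduct.inr_injective, ← Subgroup.orderOf_coe, hUo]
      exact ⟨_, by rw [orderOf_pow_of_dvd hk0 (by rw [hone]; exact Dvd.intro_left _ hk.symm), hone, hk, Nat.mul_div_cancel _ (Nat.pos_of_ne_zero hk0)]⟩

end Cfsg.Lib.Spec
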